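import Mathlib.GroupTheory.Sylow
import Mathlib.GroupTheory.SpecificGroups.Alternating

/-!
The centre of a Sylow 2-subgroup of the alternating group of degree eight has order at most two.
-/

set_option autoImplicit false
set_option maxRecDepth 100000

namespace Cfsg.Agent.A8Type

open Subgroup Equiv

/-- The alternating group of degree eight. -/
abbrev A8 := ↥(alternatingGroup (Fin 8))

/-- First translation. -/
def tr1 : A8 := ⟨swap 0 1 * swap 2 3 * swap 4 5 * swap 6 7, Equiv.Perm.mem_alternatingGroup.2 (by decide)⟩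
/-- Second translation. -/
def tr2 : A8 := ⟨swap 0 2 * swap 1 3 * swap 4 6 * swap 5 7, Equiv.Perm.mem_alternatingGroup.2 (by decide)⟩
/-- Third translation. -/
def tr4 : A8 := ⟨swap 0 4 * swap 1 5 * swap 2 6 * swap 3 7, Equiv.Perm.mem_alternatingGroup.2 (by decide)⟩
/-- A regular unipotent linear map. -/
def sig : A8 := ⟨swap 2 3 * (swap 4 6 * swap 6 5 * swap 5 7), Equiv.Perm.mem_alternatingGroup.2 (by decide)⟩

theorem comm_translations : tr1 * tr2 = tr2 * tr1 ∧ tr1 * tr4 = tr4 * tr1 ∧ tr2 * tr4 = tr4 * tr2 ∧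
    tr1 ^ 2 = 1 ∧ tr2 ^ 2 = 1 ∧ tr4 ^ 2 = 1 ∧ sig ^ 4 = 1 := by decide

theorem conj_translations : sig * tr1 * sig⁻¹ = tr1 ∧ sig * tr2 * sig⁻¹ = tr1 * tr2 ∧
    sig * tr4 * sig⁻¹ = tr2 * tr4 := by decide

theorem sig_fix : ∀ c : Fin 8, sig.1 c = c → c = 0 ∨ c = 1 := by decide

theorem sig_zero : sig.1 0 = 0 := by decide

/-- A permutation commuting with the three translations and the linear map. -/
theorem cent_cases (x : A8) (h1 : x * tr1 = tr1 * x) (h2 : x * tr2 = tr2 * x) (h4 : x * tr4 = tr4 * x)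
    (h : x * sig = sig * x) : x = 1 ∨ x = tr1 := by
  have e : ∀ (t : A8), x * t = t * x → ∀ i : Fin 8, x.1 (t.1 i) = t.1 (x.1 i) := fun t ht i =>
    congrArg (fun p : A8 => p.1 i) ht
  have h0 : x.1 0 = 0 ∨ x.1 0 = 1 := sig_fix _ (by rw [← e sig h, sig_zero])
  have hall : ∀ v : A8, x.1 0 = v.1 0 → v * tr1 = tr1 * v → v * tr2 = tr2 * v → v * tr4 = tr4 * v →
      x = v := fun v h0 g1 g2 g4 => by
    have f : ∀ (t : A8), x * t = t * x → v * t = t * v → ∀ i : Fin 8, x.1 i = v.1 i →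
        x.1 (t.1 i) = v.1 (t.1 i) := fun t ht gt i hi => by
      rw [e t ht, hi]
      exact (congrArg (fun p : A8 => p.1 i) gt).symm
    have j1 : x.1 1 = v.1 1 := f tr1 h1 g1 0 h0
    have j2 : x.1 2 = v.1 2 := f tr2 h2 g2 0 h0
    have j3 : x.1 3 = v.1 3 := f tr1 h1 g1 2 j2
    have j4 : x.1 4 = v.1 4 := f tr4 h4 g4 0 h0
    have j5 : x.1 5 = v.1 5 := f tr1 h1 g1 4 j4
    have j6 : x.1 6 = v.1 6 := f tr2 h2 g2 4 j4
    have j7 : x.1 7 = v.1 7 := f tr1 h1 g1 6 j6
    refine Subtype.ext (Equiv.ext fun i => ?_)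
    fin_cases i <;> assumption
  obtain ⟨c12, c14, c24, -⟩ := comm_translations
  rcases h0 with h0 | h0
  · exact Or.inl (hall 1 h0 (by group) (by group) (by group))
  · exact Or.inr (hall tr1 (h0.trans (by decide)) rfl c12 c14)

theorem exists_two_subgroup : ∃ K : Subgroup A8, IsPGroup 2 ↥K ∧
    tr1 ∈ K ∧ tr2 ∈ K ∧ tr4 ∈ K ∧ sig ∈ K := by
  obtain ⟨c12, c14, c24, s1, s2, s4, ss⟩ := comm_translations
  obtain ⟨k1, k2, k4⟩ := conj_translations
  have hz : ∀ (t : A8) (n : ℕ), t ^ 2 ^ n = 1 → IsPGroup 2 ↥(zpowers t) := by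
    intro t n ht
    rintro ⟨_, i, rfl⟩
    refine ⟨n, Subtype.ext (show (t ^ i) ^ (2 ^ n) = 1 from ?_)⟩
    rw [← zpow_natCast, ← zpow_mul, mul_comm, zpow_mul, zpow_natCast, ht, one_zpow]
  have hc : ∀ (B : Subgroup A8) (t : A8), B ≤ centralizer ({t} : Set A8) →
      zpowers t ≤ normalizer (B : Set A8) := fun B t hb =>
    (zpowers_le.2 (mem_centralizer_iff.2 fun b hb' =>
      mem_centralizer_singleton_iff.1 (hb hb'))).trans (centralizer_le_normalizer _)
  have hm : ∀ a t : A8, a * t = t * a → zpowers a ≤ centralizer ({t} : Set A8) := fun a t h =>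
    zpowers_le.2 (mem_centralizer_singleton_iff.2 h)
  have hp : IsPGroup 2 ↥(zpowers tr1 ⊔ zpowers tr2) :=
    (hz tr1 1 s1).to_sup_of_normal_left' (hz tr2 1 s2) (hc _ _ (hm _ _ c12))
  set T := zpowers tr1 ⊔ zpowers tr2 ⊔ zpowers tr4 with hT
  have hTp : IsPGroup 2 ↥T :=
    hp.to_sup_of_normal_left' (hz tr4 1 s4) (hc _ _ (sup_le (hm _ _ c14) (hm _ _ c24)))
  have m1 : tr1 ∈ T := mem_sup_left (mem_sup_left (mem_zpowers _))
  have m2 : tr2 ∈ T := mem_sup_left (mem_sup_right (mem_zpowers _))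
  have m4 : tr4 ∈ T := mem_sup_right (mem_zpowers _)
  have hn : sig ∈ normalizer (T : Set A8) := by
    have hle : T ≤ T.comap (MulAut.conj sig).toMonoidHom := by
      refine sup_le (sup_le ?_ ?_) ?_ <;> rw [zpowers_le]
      · show sig * tr1 * sig⁻¹ ∈ T
        rw [k1]; exact m1
      · show sig * tr2 * sig⁻¹ ∈ T
        rw [k2]; exact mul_mem m1 m2
      · show sig * tr4 * sig⁻¹ ∈ T
        rw [k4]; exact mul_mem m2 m4
    have he : T.map (MulAut.conj sig).toMonoidHom = T := by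
      refine eq_of_le_of_card_ge (map_le_iff_le_comap.2 hle) (le_of_eq ?_)
      exact Nat.card_congr (T.equivMapOfInjective _ (MulAut.conj sig).injective).toEquiv
    rw [mem_normalizer_iff_map_conj_eq]
    exact he
  exact ⟨T ⊔ zpowers sig, hTp.to_sup_of_normal_left' (hz sig 2 ss) (zpowers_le.2 hn),
    mem_sup_left m1, mem_sup_left m2, mem_sup_left m4, mem_sup_right (mem_zpowers _)⟩

/-- The centre of a Sylow 2-subgroup has at most two elements. -/
theorem sylow_center (P : Sylow 2 A8) (x y : ↥(P : Subgroup A8)) (hx : ∀ s, x * s = s * x)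
    (hy : ∀ s, y * s = s * y) : x = 1 ∨ y = 1 ∨ x = y := by
  haveI : Fact (Nat.Prime 2) := ⟨Nat.prime_two⟩
  obtain ⟨K, hK, k1, k2, k4, ks⟩ := exists_two_subgroup
  obtain ⟨Q, hQ⟩ := hK.exists_le_sylow
  let e := P.equiv Q
  have key : ∀ z : ↥(P : Subgroup A8), (∀ s, z * s = s * z) →
      z = 1 ∨ (e z : A8) = tr1 := fun z hz => by
    have hc : ∀ k ∈ K, (e z : A8) * k = k * (e z : A8) := fun k hk => by
      have h := congrArg (fun w => (e w : A8)) (hz (e.symm ⟨k, hQ hk⟩))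
      simpa using h
    rcases cent_cases _ (hc _ k1) (hc _ k2) (hc _ k4) (hc _ ks) with h | h
    · exact Or.inl (e.injective (Subtype.ext (h.trans (by simp))))
    · exact Or.inr h
  rcases key x hx with h | h
  · exact Or.inl h
  rcases key y hy with h' | h'
  · exact Or.inr (Or.inl h')
  exact Or.inr (Or.inr (e.injective (Subtype.ext (h.trans h'.symm))))

end Cfsg.Agent.A8Type
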