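import Cfsg.Agent.Lib.A8Type.CentA
import Cfsg.Agent.Lib.A8Type.AEight

/-!
The subgroup of order sixteen is normal modulo the odd core.
-/

set_option autoImplicit false
set_option linter.style.haveILetI false
set_option linter.unusedSectionVars false

namespace Cfsg.Agent.A8Type

open Subgroup ClosedAbelian

universe u

variable {G : Type u} [Group G] [Finite G] {A : Subgroup G} {S : Sylow 2 G}
  {φ : ↥(normalizer (A : Set G)) →* A5} {t y f a : G} (K : Frame A S φ t y f a)
include K

namespace Frame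

theorem odd_cent_mem_core {v b : G} (hv : v ∈ centralizer (A : Set G)) (ho : Odd (orderOf v))
    (hb : b ∈ A) (hb1 : b ≠ 1) : v ∈ core (centralizer ({b} : Set G)) := by
  set CA := centralizer (A : Set G) with hCA
  set X := centralizer ({b} : Set G) with hX
  have h1 := (le_core_sup_abelian (Y := CA) K.data.isP K.data.le_cent
    (K.not_two_dvd K.data.le_cent fun u hu _ h2 => K.data.mem_A_of_cent hu h2) K.data.ea.1
    fun g hg _ _ => hg).1 v hv ho
  have hCX : core CA ≤ X := (core_le CA).trans (Subgroup.centralizer_le (by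
    intro x hx; rw [Set.mem_singleton_iff.1 hx]; exact hb))
  refine mem_core_of_mem (N := core CA ⊔ core X) (sup_le hCX (core_le X)) ?_
    (sup_core_odd hCX (core_odd CA)) (mem_sup_left h1)
  refine (K.cov_all hb hb1).trans (sup_le (le_trans le_sup_right Subgroup.le_normalizer) ?_)
  exact le_trans (le_inf
    (inf_le_left.trans ((LELarge.normalizer_le_normalizer_centralizer A).trans
      (normalizer_le_normalizer_core CA)))
    (inf_le_right.trans (core_normalized X))) (normalizer_inf_normalizer_le_normalizer_sup _ _)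

theorem balance {a₁ b : G} (ha : a₁ ∈ A) (hb : b ∈ A) (hb1 : b ≠ 1) :
    core (centralizer ({a₁} : Set G)) ⊓ centralizer ({b} : Set G) ≤
      core (centralizer ({b} : Set G)) := by
  intro d hd
  obtain ⟨hd1, hd2⟩ := mem_inf.1 hd
  have hAc : ∀ c ∈ A, ∀ x ∈ A, x ∈ centralizer ({c} : Set G) := fun c hc x hx =>
    mem_centralizer_singleton_iff.2 (K.data.comm hx hc)
  obtain ⟨o, ho, n, hn, rfl⟩ := (K.cov_all hb hb1).exists_mul hd2
  have hnA : n ∈ normalizer (A : Set G) := (mem_inf.1 hn).1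
  have hnC : n ∈ centralizer (A : Set G) := mem_centralizer_iff.2 fun x hx => by
    obtain ⟨x', hx'⟩ : ∃ x', x' = n * x * n⁻¹ := ⟨_, rfl⟩
    have hx'A : x' ∈ A := hx' ▸ (mem_normalizer_iff.1 hnA x).1 hx
    obtain ⟨e, he⟩ : ∃ e, e = o * n * (x * (o * n)⁻¹ * x⁻¹) := ⟨_, rfl⟩
    have heD : e ∈ core (centralizer ({a₁} : Set G)) :=
      he ▸ mul_mem hd1 (conj_mem_core (hAc a₁ ha x hx) (inv_mem hd1))
    have heo : e = o * (x' * o⁻¹ * x'⁻¹) * (x' * x⁻¹) := by rw [he, hx']; group
    have ho' : o * (x' * o⁻¹ * x'⁻¹) ∈ core (centralizer ({b} : Set G)) :=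
      mul_mem ho (conj_mem_core (hAc b hb x' hx'A) (inv_mem ho))
    have hα : x' * x⁻¹ ∈ A := mul_mem hx'A (inv_mem hx)
    have he2 : e * e ∈ core (centralizer ({b} : Set G)) := by
      have h1 := mul_mem ho' (conj_mem_core (hAc b hb _ hα) ho')
      rw [heo]
      convert h1 using 1
      rw [K.data.inv hα]
      group
    have heb := mem_of_sq_mem he2 (odd_orderOf_of_mem (core_odd _) heD)
    rw [heo] at heb
    have hαb : x' * x⁻¹ ∈ core (centralizer ({b} : Set G)) := by
      simpa [mul_assoc] using mul_mem (inv_mem ho') heb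
    have := (TwoEl.of_group K.data.isP hα).eq_one_of_odd (odd_orderOf_of_mem (core_odd _) hαb)
    rw [mul_inv_eq_one, hx', mul_inv_eq_iff_eq_mul] at this
    exact this.symm
  obtain ⟨u, v, rfl, hu, hv, hu2, hov⟩ := exists_parts n
  have huA : u ∈ A := K.data.mem_A_of_cent (zpowers_le.2 hnC hu) hu2
  have hvb := K.odd_cent_mem_core (zpowers_le.2 hnC hv) hov hb hb1
  have h1 : o * (u * v * u⁻¹) ∈ core (centralizer ({b} : Set G)) :=
    mul_mem ho (conj_mem_core (hAc b hb u huA) hvb)
  refine mem_of_sq_mem ?_ (odd_orderOf_of_mem (core_odd _) hd1)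
  have h2 := mul_mem h1 (conj_mem_core (hAc b hb u huA) h1)
  rwa [show o * (u * v * u⁻¹) * (u * (o * (u * v * u⁻¹)) * u⁻¹) =
    o * (u * v) * (o * (u * v)) * (u * u)⁻¹ by group, K.data.sq huA, inv_one, mul_one] at h2

theorem orb_of_conj {x g : G} (hx : x ∈ A) (hgx : g * x * g⁻¹ ∈ A) : g * x * g⁻¹ ∈ orb A x := by
  obtain ⟨n, hn, -, he⟩ := K.data.control (M := (⊤ : Subgroup G)) le_top (mem_top g) hx hgx
  exact ⟨n, hn, he⟩

/-- The centralizer of an involution outside `A`. -/
theorem cent_t_le {M : Subgroup G} (hA : ∀ x ∈ A, x ≠ 1 → centralizer ({x} : Set G) ≤ M) :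
    centralizer ({t} : Set G) ≤ M := by
  set C := centralizer ({t} : Set G) with hC
  have hfC : f ∈ C := mem_centralizer_singleton_iff.2 (mem_cA.1 K.ft).2
  have hiso : Cfsg.IsIsolated (⟨f, hfC⟩ : ↥C) := by
    intro g hg
    obtain ⟨z, hz⟩ : ∃ z, z = (g : G) * f * (g : G)⁻¹ := ⟨_, rfl⟩
    have hfz : f * z = z * f := hz ▸ congrArg Subtype.val hg
    refine Subtype.ext ?_
    show (g : G) * f * (g : G)⁻¹ = f
    rw [← hz]
    have hgt : (g : G) * t = t * g := mem_centralizer_singleton_iff.1 g.2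
    have hzt : z * t = t * z := by
      calc z * t = (g : G) * f * ((g : G)⁻¹ * t * g) * (g : G)⁻¹ := by rw [hz]; group
        _ = (g : G) * (f * t) * (g : G)⁻¹ := by
          rw [show (g : G)⁻¹ * t * g = t by rw [mul_assoc, ← hgt, inv_mul_cancel_left]]; group
        _ = (g : G) * (t * f) * (g : G)⁻¹ := by rw [(mem_cA.1 K.ft).2]
        _ = ((g : G) * t) * f * (g : G)⁻¹ := by group
        _ = t * z := by rw [hgt, hz]; group
    have hft2 : f * t = t * f := (mem_cA.1 K.ft).2
    have hP : IsPGroup 2 ↥(zpowers t ⊔ zpowers f ⊔ zpowers z) := by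
      have hz2 : z * z = 1 := by
        rw [hz, show (g : G) * f * (g : G)⁻¹ * ((g : G) * f * (g : G)⁻¹) =
          (g : G) * (f * f) * (g : G)⁻¹ by group, K.data.sq K.fA]; group
      refine (((twoEl_of_sq K.t2).isPGroup.to_sup_of_normal_left'
        (twoEl_of_sq (K.data.sq K.fA)).isPGroup ?_).to_sup_of_normal_left'
          (twoEl_of_sq hz2).isPGroup ?_)
      · exact zpowers_le.2 (LESylow.centralizer_le_normalizer_zpowers t
          (mem_centralizer_singleton_iff.2 hft2))
      · refine zpowers_le.2 ((centralizer_le_normalizer _) ?_)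
        have : zpowers t ⊔ zpowers f ≤ centralizer ({z} : Set G) :=
          sup_le (zpowers_le.2 (mem_centralizer_singleton_iff.2 hzt.symm))
            (zpowers_le.2 (mem_centralizer_singleton_iff.2 hfz))
        exact mem_centralizer_iff.2 fun x hx => mem_centralizer_singleton_iff.1 (this hx)
    obtain ⟨c, hc⟩ := LESylow.exists_conj_le hP S
    have hcS : ∀ x ∈ zpowers t ⊔ zpowers f ⊔ zpowers z, c * x * c⁻¹ ∈ (S : Subgroup G) :=
      fun x hx => hc ⟨x, hx, rfl⟩
    have htS := hcS t (mem_sup_left (mem_sup_left (mem_zpowers t)))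
    have hfS := hcS f (mem_sup_left (mem_sup_right (mem_zpowers f)))
    have hzS := hcS z (mem_sup_right (mem_zpowers z))
    have htA : c * t * c⁻¹ ∉ A := fun h => K.tnA (by
      have h1 := K.closed _ h c⁻¹ (by
        rw [show c⁻¹ * (c * t * c⁻¹) * c⁻¹⁻¹ = t by group]; exact K.tN)
      rwa [show c⁻¹ * (c * t * c⁻¹) * c⁻¹⁻¹ = t by group] at h1)
    have hfA' := K.closed f K.fA c (K.data.leN hfS)
    have hcz : c * z * c⁻¹ = c * (g : G) * f * (c * (g : G))⁻¹ := by rw [hz]; group
    have hzA' : c * z * c⁻¹ ∈ A := by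
      rw [hcz]
      exact K.closed f K.fA _ (by rw [← hcz]; exact K.data.leN hzS)
    have key := K.data.fix_orbit K.tS K.yS K.it K.iy K.ne K.f1 K.ft K.fy (K.data.leN htS)
      (K.data.inv2_img (K.data.leN htS) (TwoEl.of_group S.2 htS) htA)
      (K.orb_of_conj K.fA hfA') (hcz.symm ▸ K.orb_of_conj K.fA (hcz ▸ hzA'))
      (mem_cA.2 ⟨hfA', ?_⟩) (mem_cA.2 ⟨hzA', ?_⟩)
    · exact (mul_left_cancel (mul_right_cancel key)).symm
    · calc c * f * c⁻¹ * (c * t * c⁻¹) = c * (f * t) * c⁻¹ := by group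
        _ = c * (t * f) * c⁻¹ := by rw [hft2]
        _ = _ := by group
    · calc c * z * c⁻¹ * (c * t * c⁻¹) = c * (z * t) * c⁻¹ := by group
        _ = c * (t * z) * c⁻¹ := by rw [hzt]
        _ = _ := by group
  refine (isolated_decomp hfC (K.data.orderOf_two K.fA K.f1) hiso).trans (sup_le ?_
    (inf_le_right.trans (hA f K.fA K.f1)))
  haveI : Fact (Nat.Prime 2) := ⟨Nat.prime_two⟩
  refine Signalizer.le_of_centralizer_le (p := 2) (B := cA A t)
    (Signalizer.ea_mono K.data.ea inf_le_left)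
    (by rw [(K.data.card_cA K.tN K.it).1]; norm_num)
    (inf_le_right.trans (core_normalized C)) (core_odd C) fun b hb hb1 =>
      inf_le_right.trans (hA b (mem_cA.1 hb).1 hb1)

theorem eq_top {M : Subgroup G} (hN : normalizer (A : Set G) ≤ M)
    (hA : ∀ x ∈ A, x ≠ 1 → centralizer ({x} : Set G) ≤ M) : M = ⊤ := by
  have hSM : (S : Subgroup G) ≤ M := K.data.leN.trans hN
  have hinS : ∀ z ∈ M, TwoEl z → ∃ c ∈ M, c * z * c⁻¹ ∈ (S : Subgroup G) := by
    intro z hz h2
    obtain ⟨c, hc, hle⟩ := LESylow.exists_conj_le_of_le (zpowers_le.2 hz) h2.isPGroup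
      (S.subtype hSM)
    obtain ⟨w, hw, hwe⟩ := hle ⟨z, mem_zpowers z, rfl⟩
    exact ⟨c, hc, by rw [show c * z * c⁻¹ = (w : G) from hwe.symm]; exact hw⟩
  refine eq_top_of_centralizers (a := f) (d := a) (K.data.sq K.fA) K.f1
    (hN (K.data.memN K.fA)) (K.data.sq K.aA) (fun g h => ?_) (fun z hz hz2 hz1 => ?_) fun g hg => ?_
  · refine K.af ?_
    have h1 := K.orb_of_conj K.aA (h.symm ▸ K.fA)
    rw [h] at h1
    rw [orb_eq h1]
    exact orb_self A a
  · obtain ⟨c, hc, hcz⟩ := hinS z hz (twoEl_of_sq hz2)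
    obtain ⟨z', hz'⟩ : ∃ z', z' = c * z * c⁻¹ := ⟨_, rfl⟩
    have hz'2 : z' * z' = 1 := by
      rw [hz', show c * z * c⁻¹ * (c * z * c⁻¹) = c * (z * z) * c⁻¹ by group, hz2]; group
    have hle : centralizer ({z'} : Set G) ≤ M := by
      rw [← hz'] at hcz
      by_cases hzA : z' ∈ A
      · exact hA z' hzA fun h => hz1 (by rw [hz'] at h; simpa using h)
      · obtain ⟨n, hn, hne⟩ := K.data.outside_conj (K.data.leN hcz) K.tN hz'2 K.t2 hzA K.tnA
        rw [← hne, ← map_centralizer_singleton]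
        rintro _ ⟨w, hw, rfl⟩
        exact mul_mem (mul_mem (hN hn) (K.cent_t_le hA hw)) (inv_mem (hN hn))
    intro w hw
    have h1 : c * w * c⁻¹ ∈ M :=
      hle (hz'.symm ▸ map_centralizer_singleton c z ▸ ⟨w, hw, rfl⟩)
    simpa [mul_assoc] using mul_mem (mul_mem (inv_mem hc) h1) hc
  · obtain ⟨c, hc, hcd⟩ := hinS _ hg ((TwoEl.of_group K.data.isP K.aA).conj g)
    have h1 : c * g * a * (c * g)⁻¹ ∈ A :=
      K.closed a K.aA (c * g) (K.data.leN (by simpa [mul_assoc] using hcd))
    obtain ⟨n, hn, -, hne⟩ :=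
      K.data.control (M := (⊤ : Subgroup G)) le_top (mem_top (c * g)) K.aA h1
    have h2 : n⁻¹ * (c * g) ∈ M := hA a K.aA K.a1 (mem_centralizer_singleton_iff.2 (by
      calc n⁻¹ * (c * g) * a = n⁻¹ * (c * g * a * (c * g)⁻¹) * (c * g) := by group
        _ = n⁻¹ * (n * a * n⁻¹) * (c * g) := by rw [hne]
        _ = _ := by group))
    have h3 := mul_mem (inv_mem hc) (mul_mem (hN hn) h2)
    simpa [mul_assoc] using h3

theorem normal : (A ⊔ Cfsg.oddCore G).Normal := by
  obtain ⟨W, hW, hWn, hθW⟩ := exists_closure K.data.ea (by rw [K.data.card]; norm_num)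
    fun a₁ ha _ b hb hb1 => K.balance ha hb hb1
  have htop := K.eq_top (M := W ⊔ normalizer (A : Set G)) le_sup_right fun x hx hx1 =>
    (K.cov_all hx hx1).trans (sup_le_sup (hθW x hx hx1) inf_le_left)
  have hWN : W.Normal := normalizer_eq_top_iff.1 (top_le_iff.1
    (htop.symm.le.trans (sup_le Subgroup.le_normalizer hWn)))
  have hWO : W ≤ Cfsg.oddCore G := PBasic.le_pPrimeCore hWN (by
    rw [Nat.coprime_comm, Nat.prime_two.coprime_iff_not_dvd]; exact hW)
  refine normalizer_eq_top_iff.1 (top_le_iff.1 (htop.symm.le.trans (sup_le ?_ ?_)))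
  · exact (hWO.trans le_sup_right).trans Subgroup.le_normalizer
  · refine le_trans (le_inf le_rfl ?_) (normalizer_inf_normalizer_le_normalizer_sup _ _)
    rw [show normalizer ((Cfsg.oddCore G : Subgroup G) : Set G) = ⊤ from
      Subgroup.normalizer_eq_top _]
    exact le_top

end Frame

omit K

/-- The assembled statement. -/
theorem normal_of_hyps {G : Type u} [Group G] [Finite G]
    (S : Sylow 2 G) (P : Sylow 2 A8) (hS : Nonempty (↥(S : Subgroup G) ≃* ↥(P : Subgroup A8)))
    (h3 : Nat.card {c : ConjClasses G // ∃ x ∈ c.carrier, orderOf x = 2} = 3)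
    (A : Subgroup G) (hA : Cfsg.IsElementaryAbelian 2 A) (hA16 : Nat.card ↥A = 16)
    (φ : ↥(normalizer (A : Set G)) →* A5) (hsurj : Function.Surjective φ)
    (hker : φ.ker = A.subgroupOf (normalizer (A : Set G)) ⊔
      Cfsg.oddCore ↥(normalizer (A : Set G))) :
    (A ⊔ Cfsg.oddCore G).Normal := by
  haveI : Fact (Nat.Prime 2) := ⟨Nat.prime_two⟩
  obtain ⟨e⟩ := hS
  have hAN : A ≤ (normalizer (A : Set G)) := Subgroup.le_normalizer
  have hA2 : IsPGroup 2 ↥A := fun a => ⟨1, Subtype.ext (hA.2 a a.2)⟩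
  -- a Sylow subgroup of the group inside the normalizer
  obtain ⟨T₀, hT₀⟩ := (hA2.comap_subtype (K := (normalizer (A : Set G)))).exists_le_sylow
  set T := (T₀ : Subgroup ↥(normalizer (A : Set G))).map (normalizer (A : Set G)).subtype with hT
  obtain ⟨S₁, hS₁⟩ := (T₀.2.map (normalizer (A : Set G)).subtype).exists_le_sylow
  have hTS : T ≤ (S₁ : Subgroup G) := hS₁
  have hAT : A ≤ T := fun x hx => ⟨⟨x, hAN hx⟩, hT₀ (mem_subgroupOf.2 hx), rfl⟩
  have hcardS : Nat.card (S₁ : Subgroup G) = 64 := by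
    have h1 : Nat.card (S₁ : Subgroup G) = Nat.card (P : Subgroup A8) :=
      (Nat.card_congr (S₁.equiv S).toEquiv).trans (Nat.card_congr e.toEquiv)
    rw [h1, P.card_eq_multiplicity, Nat.card_eq_fintype_card]
    have h8 : Fintype.card A8 = 20160 := by
      rw [← Nat.card_eq_fintype_card, nat_card_alternatingGroup, Nat.card_eq_fintype_card,
        Fintype.card_fin]
      rfl
    rw [h8]
    norm_num [Nat.factorization_def, show padicValNat 2 20160 = 6 from by
      rw [show 20160 = 2 ^ 6 * 315 by norm_num,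
        padicValNat.mul (by norm_num) (by norm_num), padicValNat.prime_pow,
        padicValNat.eq_zero_of_not_dvd (by norm_num)]]
  have hTS' : T = (S₁ : Subgroup G) := by
    refine eq_of_le_of_card_ge hTS ?_
    rw [hcardS, hT, card_subtype]
    have h2 : 64 ∣ Nat.card ↥(normalizer (A : Set G)) := by
      have hdvdA : Nat.card φ.ker * 60 = Nat.card ↥(normalizer (A : Set G)) := by
        have := φ.ker.index_mul_card
        rw [Subgroup.index_ker, MonoidHom.range_eq_top.2 hsurj, Subgroup.card_top, card_A5] at this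
        rw [← this, mul_comm]
      have h16 : 16 ∣ Nat.card φ.ker := by
        rw [← hA16, ← Nat.card_congr (subgroupOfEquivOfLe hAN).toEquiv, hker]
        exact card_dvd_of_le le_sup_left
      obtain ⟨k, hk⟩ := h16
      exact ⟨15 * k, by rw [← hdvdA, hk]; ring⟩
    obtain ⟨i, hi⟩ := T₀.2.exists_card_eq
    rw [hi]
    have h3' : 2 ^ 6 ∣ Nat.card (T₀ : Subgroup ↥(normalizer (A : Set G))) * (T₀ : Subgroup ↥(normalizer (A : Set G))).index := by
      rw [Subgroup.card_mul_index]; exact h2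
    have h4 := (Nat.Coprime.pow_left 6
      (Nat.prime_two.coprime_iff_not_dvd.2 T₀.not_dvd_index)).dvd_of_dvd_mul_right h3'
    rw [hi] at h4
    exact Nat.le_of_dvd (Nat.two_pow_pos i) h4
  have hSN : (S₁ : Subgroup G) ≤ (normalizer (A : Set G)) := hTS' ▸ map_subtype_le _
  let e₁ := (S₁.equiv S).trans e
  have D : Data A S₁ φ := by
    refine ⟨hA, hA16, hAT.trans hTS, hSN, ?_, hsurj, hker, h3⟩
    intro x hx z hz hxc hzc
    rcases sylow_center P (e₁ ⟨x, hx⟩) (e₁ ⟨z, hz⟩)
      (fun s => by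
        obtain ⟨s, rfl⟩ := e₁.surjective s
        rw [← map_mul, ← map_mul]
        exact congrArg e₁ (Subtype.ext (hxc s s.2)))
      (fun s => by
        obtain ⟨s, rfl⟩ := e₁.surjective s
        rw [← map_mul, ← map_mul]
        exact congrArg e₁ (Subtype.ext (hzc s s.2))) with h | h | h
    · exact Or.inl (congrArg Subtype.val (e₁.map_eq_one_iff.1 h))
    · exact Or.inr (Or.inl (congrArg Subtype.val (e₁.map_eq_one_iff.1 h)))
    · exact Or.inr (Or.inr (congrArg Subtype.val (e₁.injective h)))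
  obtain ⟨t, y, f, a, K⟩ := D.exists_frame
  exact K.normal

end Cfsg.Agent.A8Type
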