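import Cfsg.Agent.Lib.A8Type.CentF
import Cfsg.Agent.Lib.BrauerSuzuki.ZStar
import Cfsg.Agent.Lib.BrauerSuzuki.Isolated

/-!
The centralizer of an involution in the orbit of size ten.
-/

set_option autoImplicit false
set_option linter.style.haveILetI false
set_option linter.unusedSectionVars false

namespace Cfsg.Agent.A8Type

open Subgroup ClosedAbelian

universe u

variable {G : Type u} [Group G] [Finite G] {A : Subgroup G} {S : Sylow 2 G}
  {φ : ↥(normalizer (A : Set G)) →* A5} {t y f a : G}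

/-- An isolated involution of a subgroup is central modulo the odd core. -/
theorem isolated_decomp {Y : Subgroup G} {x : G} (hxY : x ∈ Y) (hx : orderOf x = 2)
    (hiso : Cfsg.IsIsolated (⟨x, hxY⟩ : ↥Y)) : Y ≤ core Y ⊔ (Y ⊓ centralizer ({x} : Set G)) := by
  intro g hg
  have hz := BrauerSuzuki.zStar ↥Y ⟨x, hxY⟩ (by rw [orderOf_mk, hx]) hiso ⟨g, hg⟩
  set o := g * x * g⁻¹ * x⁻¹ with ho
  have hoc : o ∈ core Y := ⟨_, hz, rfl⟩
  have hx2 : x * x = 1 := by rw [← pow_two, ← hx, pow_orderOf_eq_one]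
  have hxinv : x⁻¹ = x := inv_eq_of_mul_eq_one_right hx2
  have hox : x * o * x⁻¹ = o⁻¹ := by
    rw [show x * o * x⁻¹ = x * g * x * g⁻¹ * (x⁻¹ * x⁻¹) by rw [ho]; group, hxinv, hx2, mul_one,
      show o⁻¹ = x * g * x⁻¹ * g⁻¹ by rw [ho]; group, hxinv]
  obtain ⟨j, hj⟩ := odd_orderOf_of_mem (core_odd Y) hoc
  set v := o ^ (j + 1) with hv
  have hvv : v * v = o := by
    rw [hv, ← pow_add, show j + 1 + (j + 1) = (2 * j + 1) + 1 by ring, pow_succ, ← hj,
      pow_orderOf_eq_one, one_mul]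
  have hvc : v ∈ core Y := pow_mem hoc _
  have hxv : x * v⁻¹ = v * x := by
    have : x * v * x⁻¹ = v⁻¹ := by rw [hv, ← conj_pow, hox, inv_pow]
    calc x * v⁻¹ = x * (x * v * x⁻¹) := by rw [this]
      _ = x * x * v * x⁻¹ := by group
      _ = v * x := by rw [hx2, one_mul, hxinv]
  have hcomm : v⁻¹ * g * x = x * (v⁻¹ * g) := by
    have h1 : g * x = o * x * g := by rw [ho]; group
    calc v⁻¹ * g * x = v⁻¹ * (v * v) * x * g := by rw [mul_assoc, h1, hvv]; group
      _ = v * x * g := by group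
      _ = x * v⁻¹ * g := by rw [hxv]
      _ = _ := by group
  have := mul_mem (mem_sup_left (T := Y ⊓ centralizer ({x} : Set G)) hvc) (mem_sup_right (S := core Y)
    (mem_inf.2 ⟨mul_mem (inv_mem (core_le Y hvc)) hg, mem_centralizer_singleton_iff.2 hcomm⟩))
  simpa using this

/-- The centralizer is covered by its odd core and the normalizer of `A`. -/
def Cov (A : Subgroup G) (x : G) : Prop :=
  centralizer ({x} : Set G) ≤
    core (centralizer ({x} : Set G)) ⊔ (normalizer (A : Set G) ⊓ centralizer ({x} : Set G))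

theorem Cov.conj {x n : G} (h : Cov A x) (hn : n ∈ normalizer (A : Set G)) :
    Cov A (n * x * n⁻¹) := by
  intro g hg
  rw [← map_centralizer_singleton n x] at hg
  obtain ⟨w, hw, rfl⟩ := hg
  have h1 := mem_map_of_mem (MulAut.conj n).toMonoidHom (h hw)
  rw [Subgroup.map_sup] at h1
  refine sup_le_sup ((conj_core_le _ n).trans (map_centralizer_singleton n x ▸ le_rfl)) ?_ h1
  refine (map_inf_le _ _ _).trans (inf_le_inf ?_ (map_centralizer_singleton n x).le)
  exact (LEBasic.map_conj_eq_iff_mem_normalizer.2 (Subgroup.le_normalizer hn)).le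

theorem Cov.exists_mul {x g : G} (h : Cov A x) (hg : g ∈ centralizer ({x} : Set G)) :
    ∃ o ∈ core (centralizer ({x} : Set G)),
      ∃ n ∈ normalizer (A : Set G) ⊓ centralizer ({x} : Set G), g = o * n := by
  have hx' := h hg
  rw [← SetLike.mem_coe, coe_mul_of_right_le_normalizer_left
    (core (centralizer ({x} : Set G))) (normalizer (A : Set G) ⊓ centralizer ({x} : Set G))
    (inf_le_right.trans (core_normalized _))] at hx'
  obtain ⟨o, ho, n, hn, he⟩ := hx'
  exact ⟨o, ho, n, hn, he.symm⟩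

variable (K : Frame A S φ t y f a)
include K

namespace Frame

theorem cov_f {x : G} (hx : x ∈ orb A f) : Cov A x := by
  obtain ⟨n, hn, rfl⟩ := hx
  exact Cov.conj K.cent_f hn

theorem le_normalizer_two {P : Subgroup G} (hP : IsPGroup 2 ↥P) (hAP : A ≤ P) :
    P ≤ normalizer (A : Set G) := fun _ hu =>
  K.data.mem_normalizer_of_le hP hAP fun _ hb =>
    mul_mem (mul_mem hu (hAP hb)) (inv_mem hu)

theorem cov_a : Cov A a := by
  haveI : Fact (Nat.Prime 2) := ⟨Nat.prime_two⟩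
  set C := centralizer ({a} : Set G) with hC
  have hAC : A ≤ C := fun b hb => mem_centralizer_singleton_iff.2 (K.data.comm hb K.aA)
  have htC : t ∈ C := mem_centralizer_singleton_iff.2 (mem_cA.1 K.at').2.symm
  set P := A ⊔ zpowers t with hPdef
  have hPC : P ≤ C := sup_le hAC (zpowers_le.2 htC)
  have hPS : P ≤ (S : Subgroup G) := sup_le K.data.le (zpowers_le.2 K.tS)
  obtain ⟨P₁, hP₁⟩ := ((S.2.to_le hPS).comap_subtype (K := C)).exists_le_sylow
  set P' := (P₁ : Subgroup ↥C).map C.subtype with hP'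
  have hPP' : P ≤ P' := fun x hx => ⟨⟨x, hPC hx⟩, hP₁ (mem_subgroupOf.2 hx), rfl⟩
  have hP'2 : IsPGroup 2 ↥P' := P₁.2.map _
  have hP'N : P' ≤ normalizer (A : Set G) := K.le_normalizer_two hP'2 (le_sup_left.trans hPP')
  have hPeq : P = P' := by
    refine eq_of_le_of_card_ge hPP' ?_
    obtain ⟨n, hn, hle⟩ := LESylow.exists_conj_le_of_le hP'N hP'2 (S.subtype K.data.leN)
    have hle' : P'.map (MulAut.conj n).toMonoidHom ≤ (S : Subgroup G) := fun x hx => by
      obtain ⟨w, hw, rfl⟩ := hle hx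
      exact hw
    obtain ⟨j, hj⟩ := hP'2.exists_card_eq
    have hcard := LEBasic.card_map_conj P' n
    have hj6 : j ≤ 5 := by
      by_contra hlt
      have heq : P'.map (MulAut.conj n).toMonoidHom = (S : Subgroup G) := by
        refine eq_of_le_of_card_ge hle' ?_
        rw [K.card_S, hcard, hj]
        calc 64 = 2 ^ 6 := rfl
          _ ≤ _ := Nat.pow_le_pow_right two_pos (by omega)
      refine K.af ⟨n⁻¹, inv_mem hn, ?_⟩
      have hnA : n * a * n⁻¹ ∈ A := (mem_normalizer_iff.1 hn a).1 K.aA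
      have hall : ∀ s ∈ (S : Subgroup G), n * a * n⁻¹ * s = s * (n * a * n⁻¹) := by
        intro s hs
        rw [← heq] at hs
        obtain ⟨p, hp, rfl⟩ := hs
        show n * a * n⁻¹ * (n * p * n⁻¹) = n * p * n⁻¹ * (n * a * n⁻¹)
        have := mem_centralizer_singleton_iff.1 (map_subtype_le _ hp : p ∈ C)
        calc n * a * n⁻¹ * (n * p * n⁻¹) = n * (a * p) * n⁻¹ := by group
          _ = n * (p * a) * n⁻¹ := by rw [this]
          _ = _ := by group
      have := K.data.fix_unique K.tS K.yS K.it K.iy K.ne (mem_cA.2 ⟨hnA, hall t K.tS⟩)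
        (mem_cA.2 ⟨hnA, hall y K.yS⟩) K.ft K.fy (fun h => K.a1 (by simpa using h)) K.f1
      rw [← this]; group
    obtain ⟨i, hi⟩ := (S.2.to_le hPS).exists_card_eq
    have hlt : Nat.card A < Nat.card P := by
      refine Nat.lt_of_le_of_ne (Subgroup.card_le_of_le le_sup_left) fun h => K.tnA ?_
      rw [eq_of_le_of_card_ge (le_sup_left : A ≤ P) h.ge]
      exact mem_sup_right (mem_zpowers t)
    rw [K.data.card, show (16 : ℕ) = 2 ^ 4 from rfl, hi] at hlt
    rw [hi, hj]
    refine Nat.pow_le_pow_right two_pos ?_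
    have := (Nat.pow_lt_pow_iff_right (by norm_num)).1 hlt
    omega
  have hP₁eq : (P₁ : Subgroup ↥C) = P.subgroupOf C := by
    rw [hPeq, hP', Subgroup.subgroupOf, comap_map_eq_self_of_injective C.subtype_injective]
  -- the index two subgroup
  have himg : ∀ x ∈ P, img φ x = 1 ∨ img φ x = img φ t := by
    intro x hx
    rw [hPdef, ← SetLike.mem_coe,
      coe_mul_of_right_le_normalizer_left A (zpowers t) (zpowers_le.2 K.tN)] at hx
    obtain ⟨b, hb, w, hw, rfl⟩ := hx
    rcases zpowers_cases K.t2 hw with rfl | rfl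
    · left; beta_reduce; rw [mul_one]; exact K.data.img_A hb
    · right; beta_reduce; rw [K.data.img_mul (K.data.memN hb) K.tN, K.data.img_A hb, one_mul]
  obtain ⟨M, hMn, hPM, hMtop⟩ := exists_normal_of_focal P₁ (A.subgroupOf C)
    (fun x hx => hP₁ (mem_subgroupOf.2 (mem_sup_left (mem_subgroupOf.1 hx)))) (by
      intro x hx g hg
      rw [hP₁eq, mem_subgroupOf] at hx hg
      rw [mem_subgroupOf]
      simp only [Subgroup.coe_mul, Subgroup.coe_inv] at hg ⊢
      have hxN := K.data.leN (hPS hx)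
      have hzN := K.data.leN (hPS hg)
      by_cases hxA : (x : G) ∈ A
      · exact mul_mem (inv_mem hxA) (K.closed _ hxA g hzN)
      · have hzA : (g : G) * x * (g : G)⁻¹ ∉ A := fun h => hxA (by
          have h1 := K.closed _ h (g : G)⁻¹ (by
            rw [show (g : G)⁻¹ * ((g : G) * x * (g : G)⁻¹) * (g : G)⁻¹⁻¹ = x by group]; exact hxN)
          rwa [show (g : G)⁻¹ * ((g : G) * x * (g : G)⁻¹) * (g : G)⁻¹⁻¹ = x by group] at h1)
        have h2 := TwoEl.of_group (S.2.to_le hPS) (mul_mem (inv_mem hx) hg)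
        refine K.data.mem_A_of_img (mul_mem (inv_mem hxN) hzN) h2 ?_
        rw [K.data.img_mul (inv_mem hxN) hzN, K.data.img_inv hxN]
        have hi : ∀ z ∈ P, z ∉ A → img φ z = img φ t := fun z hz hzA =>
          (himg z hz).resolve_left fun h => hzA (K.data.mem_A_of_img (K.data.leN (hPS hz))
            (TwoEl.of_group (S.2.to_le hPS) hz) h)
        rw [hi _ hx hxA, hi _ hg hzA, inv_mul_cancel])
  set L := M.map C.subtype with hL
  have hLC : L ≤ C := map_subtype_le _
  have hCL : C ≤ normalizer (L : Set G) := by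
    have h := le_normalizer_map (H := M) C.subtype
    rw [normalizer_eq_top, ← MonoidHom.range_eq_map, range_subtype] at h
    exact h
  have hAL : A ≤ L := fun b hb => ⟨⟨b, hAC hb⟩,
    (mem_inf.1 (hPM.symm.le (mem_subgroupOf.2 hb))).2, rfl⟩
  have hCLP : C ≤ L ⊔ P := by
    intro g hg
    have h1 : (⟨g, hg⟩ : ↥C) ∈ (P₁ : Subgroup ↥C) ⊔ M := hMtop.symm ▸ mem_top _
    have h2 := mem_map_of_mem C.subtype h1
    rw [Subgroup.map_sup, ← hP', ← hPeq, sup_comm] at h2
    exact h2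
  have hoddL : ∀ g ∈ C, Odd (orderOf g) → g ∈ L := by
    intro g hg ho
    haveI := hMn
    refine ⟨⟨g, hg⟩, (QuotientGroup.eq_one_iff _).1 ?_, rfl⟩
    obtain ⟨p, hp, hpe⟩ : (QuotientGroup.mk' M ⟨g, hg⟩) ∈
        (P₁ : Subgroup ↥C).map (QuotientGroup.mk' M) := by
      have h2 := mem_map_of_mem (QuotientGroup.mk' M)
        (show (⟨g, hg⟩ : ↥C) ∈ (P₁ : Subgroup ↥C) ⊔ M from hMtop.symm ▸ mem_top _)
      rwa [Subgroup.map_sup, (Subgroup.map_eq_bot_iff _).2 (QuotientGroup.ker_mk' M).ge,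
        sup_bot_eq] at h2
    obtain ⟨k, hk⟩ := P₁.2 ⟨p, hp⟩
    have hpk : p ^ 2 ^ k = 1 := congrArg Subtype.val hk
    refine orderOf_eq_one_iff.1 (Nat.eq_one_of_dvd_coprimes
      (Nat.Coprime.pow_right k (Nat.coprime_two_right.2 ho)) ?_ ?_)
    · exact (orderOf_map_dvd (QuotientGroup.mk' M) ⟨g, hg⟩).trans (by rw [orderOf_mk])
    · show orderOf (QuotientGroup.mk' M ⟨g, hg⟩) ∣ _
      rw [← hpe]
      exact orderOf_dvd_of_pow_eq_one (by rw [← map_pow, hpk, map_one])
  have hsylL : ¬ 2 ∣ A.relIndex L := by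
    haveI := hMn
    have h1 : ¬ 2 ∣ (P₁ : Subgroup ↥C).relIndex M := by
      rw [PBasic.relIndex_eq_relIndex_sup (P₁ : Subgroup ↥C) M]
      exact fun h => P₁.not_dvd_index (h.trans (relIndex_dvd_index_of_le le_sup_right))
    rw [← Subgroup.inf_relIndex_right, hPM] at h1
    rw [hL, ← Subgroup.relIndex_comap]
    exact h1
  have hLA : ∀ u ∈ L, u ∈ normalizer (A : Set G) → TwoEl u → u ∈ A := by
    intro u hu huN h2
    have hUp : IsPGroup 2 ↥(zpowers u ⊔ A) :=
      h2.isPGroup.to_sup_of_normal_right' K.data.isP (zpowers_le.2 huN)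
    have hdvd : A.relIndex (zpowers u ⊔ A) ∣ A.relIndex L :=
      ⟨_, (relIndex_mul_relIndex _ _ _ le_sup_right (sup_le (zpowers_le.2 hu) hAL)).symm⟩
    obtain ⟨k, hk⟩ := hUp.exists_card_eq
    have hpow : A.relIndex (zpowers u ⊔ A) ∣ 2 ^ k := by
      rw [← hk, ← PBasic.card_mul_relIndex (le_sup_right : A ≤ zpowers u ⊔ A)]
      exact dvd_mul_left _ _
    obtain ⟨i, -, hi⟩ := (Nat.dvd_prime_pow Nat.prime_two).1 hpow
    rcases Nat.eq_zero_or_pos i with rfl | hpos
    · exact relIndex_eq_one.1 (hi.trans (pow_zero 2)) (mem_sup_left (mem_zpowers u))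
    · exact absurd ((dvd_pow_self 2 hpos.ne').trans (hi ▸ hdvd)) hsylL
  -- the automiser
  set R := ((normalizer (A : Set G) ⊓ L).subgroupOf (normalizer (A : Set G))).map φ with hR
  have hR3 : ∀ w ∈ R, w ^ 3 = 1 := by
    rintro _ ⟨m, hm, rfl⟩
    obtain ⟨hmN, hmL⟩ := mem_inf.1 (mem_subgroupOf.1 hm)
    rw [← Data.img_of_mem (φ := φ) hmN]
    have hma : a ∈ cA A (m : G) := mem_cA.2 ⟨K.aA,
      (mem_centralizer_singleton_iff.1 (hLC hmL)).symm⟩
    obtain ⟨p, v, hpv, hp, hv, hp2, hvo⟩ := exists_parts (m : G)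
    have hpN : p ∈ normalizer (A : Set G) := zpowers_le.2 hmN hp
    have hvN : v ∈ normalizer (A : Set G) := zpowers_le.2 hmN hv
    have hmv : img φ (m : G) = img φ v := by
      rw [← hpv, K.data.img_mul hpN hvN,
        K.data.img_A (hLA p (zpowers_le.2 hmL hp) hpN hp2), one_mul]
    have hd : orderOf (img φ (m : G)) ∣ orderOf v := by
      rw [hmv]
      exact orderOf_dvd_of_pow_eq_one (by
        rw [← K.data.img_pow hvN, pow_orderOf_eq_one, K.data.img_A (one_mem A)])
    have ho : Odd (orderOf (img φ (m : G))) := Odd.of_dvd_nat hvo hd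
    have h60 : orderOf (img φ (m : G)) ∣ 4 * 15 := by
      rw [show 4 * 15 = Nat.card A5 from card_A5.symm]; exact orderOf_dvd_natCard _
    have h15 : orderOf (img φ (m : G)) ∣ 3 * 5 :=
      (Nat.Coprime.pow_right 2 (Nat.coprime_two_right.2 ho) : (orderOf (img φ (m : G))).Coprime 4)
        |>.dvd_of_dvd_mul_left h60
    have h5 : img φ ((m : G) ^ 3) = 1 := by
      refine K.data.five (pow_mem hmN 3) ?_ (mem_cA.2 ⟨K.aA,
        ((Commute.pow_right (mem_cA.1 hma).2 3 : Commute a ((m : G) ^ 3))).eq⟩) K.a1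
      rw [K.data.img_pow hmN, ← pow_mul]
      exact orderOf_dvd_iff_pow_eq_one.1 h15
    rwa [K.data.img_pow hmN] at h5
  obtain ⟨f', hf', hfix⟩ : ∃ f' ∈ orb A f,
      ∀ m ∈ normalizer (A : Set G), m ∈ L → f' ∈ cA A m := by
    haveI : Fact (Nat.Prime 3) := ⟨Nat.prime_three⟩
    have hfA : ∀ z ∈ orb A f, z ∈ A := fun z hz => (K.data.orb_mem K.fA K.f1 hz).1
    by_cases htriv : R = ⊥
    · refine ⟨f, orb_self A f, fun m hmN hmL => mem_cA.2 ⟨K.fA, ?_⟩⟩
      have : img φ m ∈ R := ⟨⟨m, hmN⟩, mem_subgroupOf.2 (mem_inf.2 ⟨hmN, hmL⟩),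
        (Data.img_of_mem hmN).symm⟩
      rw [htriv, mem_bot, K.data.img_eq_one_iff hmN] at this
      exact mem_centralizer_iff.1 this f K.fA
    obtain ⟨w, hw, hw1⟩ := R.bot_or_exists_ne_one.resolve_left htriv
    have hgen : R = zpowers w := by
      refine (eq_of_le_of_card_ge (zpowers_le.2 hw) ?_).symm
      obtain ⟨j, hj⟩ := (show IsPGroup 3 ↥R from fun z =>
        ⟨1, Subtype.ext (by simpa using hR3 z z.2)⟩).exists_card_eq
      have hj1 : j ≤ 1 := by
        by_contra hlt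
        have : 3 ^ 2 ∣ 60 := (pow_dvd_pow 3 (by omega : 2 ≤ j)).trans (by
          rw [← hj, ← card_A5]; exact card_subgroup_dvd_card R)
        omega
      rw [hj, Nat.card_zpowers, orderOf_eq_prime (hR3 w hw) hw1]
      calc 3 ^ j ≤ 3 ^ 1 := Nat.pow_le_pow_right (by norm_num) hj1
        _ = 3 := pow_one 3
    obtain ⟨r, hr, hre⟩ := hw
    have hrN : (r : G) ∈ normalizer (A : Set G) := r.2
    have hri : img φ (r : G) = w := by rw [Data.img_of_mem hrN]; exact hre
    have hmod := fixed_modEq (p := 3) (r : G) (orb A f)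
      (fun z hz => by
        obtain ⟨n, hn, rfl⟩ := hz
        exact ⟨(r : G) * n, mul_mem hrN hn, by group⟩)
      (fun z hz => (mem_centralizer_iff.1 ((K.data.img_eq_one_iff (pow_mem hrN 3)).1
        (by rw [K.data.img_pow hrN, hri]; exact hR3 w ⟨r, hr, hre⟩)) z (hfA z hz)).symm)
    rw [K.orbf] at hmod
    obtain ⟨⟨z, hz, hzr⟩⟩ : Nonempty {z : G // z ∈ orb A f ∧ (r : G) * z = z * (r : G)} := by
      by_contra hemp
      haveI := not_nonempty_iff.1 hemp
      rw [Nat.card_of_isEmpty] at hmod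
      exact absurd hmod (by decide)
    refine ⟨z, hz, fun m hmN hmL => ?_⟩
    have hmR : img φ m ∈ R := ⟨⟨m, hmN⟩, mem_subgroupOf.2 (mem_inf.2 ⟨hmN, hmL⟩),
      (Data.img_of_mem hmN).symm⟩
    rw [hgen, ← mem_powers_iff_mem_zpowers] at hmR
    obtain ⟨i, hi⟩ := hmR
    rw [K.data.cA_congr hmN (pow_mem hrN i) (by rw [K.data.img_pow hrN, hri]; exact hi.symm)]
    exact mem_cA.2 ⟨hfA z hz, ((Commute.pow_right (hzr.symm : Commute z (r : G)) i)).eq⟩
  obtain ⟨hf'A, hf'1⟩ := K.data.orb_mem K.fA K.f1 hf'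
  have hiso : Cfsg.IsIsolated (⟨f', hAL hf'A⟩ : ↥L) := by
    let PL : Sylow 2 ↥L := (K.data.isP.comap_subtype (K := L)).toSylow hsylL
    refine BrauerSuzuki.isIsolated_of_sylow (P := PL)
      (by rw [orderOf_mk]; exact K.data.orderOf_two hf'A hf'1) (mem_subgroupOf.2 hf'A) fun g hg => ?_
    have hg' : (g : G) * f' * (g : G)⁻¹ ∈ A := mem_subgroupOf.1 hg
    obtain ⟨n, hn, hnL, hne⟩ := K.data.control hAL g.2 hf'A hg'
    refine Subtype.ext ?_
    show (g : G) * f' * (g : G)⁻¹ = f'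
    rw [← hne, ← (mem_cA.1 (hfix n hn hnL)).2, mul_inv_cancel_right]
  have hdec := isolated_decomp (hAL hf'A) (K.data.orderOf_two hf'A hf'1) hiso
  set C' := centralizer ({f'} : Set G) with hC'
  set D₀ := core C' ⊓ C with hD₀
  have hD₀odd : ¬ 2 ∣ Nat.card D₀ := fun h => core_odd C' (h.trans (card_dvd_of_le inf_le_left))
  have hD₀L : D₀ ≤ L := fun g hg =>
    hoddL g (mem_inf.1 hg).2 (odd_orderOf_of_mem hD₀odd hg)
  have hD₀n : L ⊓ C' ≤ normalizer (D₀ : Set G) :=
    le_trans (le_inf (inf_le_right.trans (core_normalized C'))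
      ((inf_le_left.trans hLC).trans Subgroup.le_normalizer)) Subgroup.inf_normalizer_le_normalizer_inf
  have hDL : D₀ ≤ core L := by
    refine le_trans le_sup_left (le_core (sup_le hD₀L (core_le L)) ?_ (sup_core_odd hD₀L hD₀odd))
    refine hdec.trans (sup_le (le_trans le_sup_right Subgroup.le_normalizer) ?_)
    exact le_trans (le_inf hD₀n (inf_le_left.trans (core_normalized L)))
      (normalizer_inf_normalizer_le_normalizer_sup _ _)
  have hcoreL : core L ≤ core C :=
    le_core ((core_le L).trans hLC) (hCL.trans (normalizer_le_normalizer_core L)) (core_odd L)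
  refine hCLP.trans (sup_le (hdec.trans (sup_le (hcoreL.trans le_sup_left) fun g hg => ?_))
    (le_sup_of_le_right (le_inf (hPS.trans K.data.leN) hPC)))
  obtain ⟨hgL, hgC'⟩ := mem_inf.1 hg
  obtain ⟨o, ho, n, hn, rfl⟩ := (K.cov_f hf').exists_mul hgC'
  obtain ⟨hnN, hnC'⟩ := mem_inf.1 hn
  obtain ⟨α, hα⟩ : ∃ α, α = n * a * n⁻¹ := ⟨_, rfl⟩
  have hαA : α ∈ A := hα ▸ (mem_normalizer_iff.1 hnN a).1 K.aA
  have hαC' : α ∈ C' := mem_centralizer_singleton_iff.2 (K.data.comm hαA hf'A)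
  have hoa : o * α * o⁻¹ = a := by
    rw [hα]
    calc o * (n * a * n⁻¹) * o⁻¹ = o * n * a * (o * n)⁻¹ := by group
      _ = a := by rw [mem_centralizer_singleton_iff.1 (hLC hgL), mul_inv_cancel_right]
  have haα : a * α⁻¹ = 1 := by
    refine (TwoEl.of_group K.data.isP (mul_mem K.aA (inv_mem hαA))).eq_one_of_odd
      (odd_orderOf_of_mem (core_odd C') ?_)
    rw [← hoa, show o * α * o⁻¹ * α⁻¹ = o * (α * o⁻¹ * α⁻¹) by group]
    exact mul_mem ho (conj_mem_core hαC' (inv_mem ho))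
  rw [mul_inv_eq_one] at haα
  have hnC : n ∈ C := mem_centralizer_singleton_iff.2 (mul_inv_eq_iff_eq_mul.1 (hα.symm.trans haα.symm))
  have hoC : o ∈ C := by simpa using mul_mem (hLC hgL) (inv_mem hnC)
  exact mul_mem (mem_sup_left (hcoreL (hDL (mem_inf.2 ⟨ho, hoC⟩))))
    (mem_sup_right (mem_inf.2 ⟨hnN, hnC⟩))

theorem cov_all {x : G} (hx : x ∈ A) (hx1 : x ≠ 1) : Cov A x := by
  rcases K.cover x hx hx1 with h | h
  · exact K.cov_f h
  · obtain ⟨n, hn, rfl⟩ := h
    exact Cov.conj K.cov_a hn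

end Frame

end Cfsg.Agent.A8Type
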