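import Mathlib.GroupTheory.SpecificGroups.Alternating

/-!
Facts about involutions of the alternating group of degree five.
-/

set_option autoImplicit false
set_option maxRecDepth 100000
set_option synthInstance.maxSize 2000
set_option synthInstance.maxHeartbeats 400000

namespace Cfsg.Agent.A8Type

/-- The alternating group of degree five. -/
abbrev A5 := ↥(alternatingGroup (Fin 5))

/-- An involution. -/
def Inv2 (u : A5) : Prop := u * u = 1 ∧ u ≠ 1

instance : DecidablePred Inv2 := fun _ => inferInstanceAs (Decidable (_ ∧ _))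

theorem inv2_conj : ∀ u : A5, Inv2 u → ∀ v : A5, Inv2 v → ∃ h : A5, h * u * h⁻¹ = v := by
  decide +kernel

theorem inv2_comm_sq : ∀ u : A5, Inv2 u → ∀ x : A5, x * u = u * x → x * x = 1 := by
  decide +kernel

theorem inv2_four : ∀ u : A5, Inv2 u → ∀ v : A5, Inv2 v → u * v = v * u → u ≠ v →
    ∀ w : A5, w * u = u * w → w = 1 ∨ w = u ∨ w = v ∨ w = u * v := by
  decide +kernel

theorem inv2_five : ∀ u : A5, Inv2 u → ∀ v : A5, Inv2 v → u * v = v * u → u ≠ v →
    ∀ w : A5, Inv2 w → w ≠ u → w ≠ v → w ≠ u * v →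
    (u * w) ^ 5 = 1 ∨ (v * w) ^ 5 = 1 ∨ (u * v * w) ^ 5 = 1 := by
  decide +kernel

theorem inv2_conj_five : ∀ u : A5, Inv2 u →
    ∃ h : A5, (u * (h * u * h⁻¹)) ^ 5 = 1 ∧ u * (h * u * h⁻¹) ≠ 1 := by
  decide +kernel

theorem pow_four : ∀ x : A5, x ^ 4 = 1 → x * x = 1 := by
  decide +kernel

end Cfsg.Agent.A8Type
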