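import Cfsg.Agent.Lib.A8Type.Frame
import Cfsg.Agent.Lib.ClosedAbelian.Cent
import Cfsg.Agent.Lib.Transfer.SignThompson

/-!
The centralizer of an involution in the orbit of size five.
-/

set_option autoImplicit false
set_option linter.style.haveILetI false
set_option linter.unusedSectionVars false

namespace Cfsg.Agent.A8Type

open Subgroup ClosedAbelian

universe u

variable {G : Type u} [Group G] [Finite G] {A : Subgroup G} {S : Sylow 2 G}
  {φ : ↥(normalizer (A : Set G)) →* A5} {t y f a : G}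

/-- The subgroup of order eight spanned by the fixed points of the involutions. -/
def eight (A : Subgroup G) (t y : G) : Subgroup G := cA A t ⊔ cA A y

/-- The subgroup of index two of the Sylow subgroup. -/
def thirtytwo (A : Subgroup G) (t y : G) : Subgroup G := eight A t y ⊔ (zpowers t ⊔ zpowers y)

variable (K : Frame A S φ t y f a)
include K

namespace Frame

theorem fA : f ∈ A := (mem_cA.1 K.ft).1

theorem aA : a ∈ A := (mem_cA.1 K.at').1

theorem tN : t ∈ normalizer (A : Set G) := K.data.leN K.tS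

theorem yN : y ∈ normalizer (A : Set G) := K.data.leN K.yS

theorem tinv : t⁻¹ = t := inv_eq_of_mul_eq_one_right K.t2

theorem yinv : y⁻¹ = y := inv_eq_of_mul_eq_one_right K.y2

theorem tnA : t ∉ A := fun h => K.it.2 (K.data.img_A h)

theorem f_central {s : G} (hs : s ∈ (S : Subgroup G)) : f * s = s * f :=
  K.data.fix_central K.tS K.yS K.it K.iy K.ne K.ft K.fy s hs

theorem S_le_cent : (S : Subgroup G) ≤ centralizer ({f} : Set G) := fun _ hs =>
  mem_centralizer_singleton_iff.2 (K.f_central hs).symm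

theorem A_le_cent : A ≤ centralizer ({f} : Set G) := K.data.le.trans K.S_le_cent

theorem f_unique {b : G} (h1 : b ∈ cA A t) (h2 : b ∈ cA A y) : b ∈ zpowers f := by
  by_cases hb : b = 1
  · rw [hb]; exact one_mem _
  · rw [K.data.fix_unique K.tS K.yS K.it K.iy K.ne h1 h2 K.ft K.fy hb K.f1]
    exact mem_zpowers f

theorem itw : Inv2 (img φ (t * y)) := by
  rw [K.data.img_mul K.tN K.yN]
  refine ⟨?_, fun h => K.ne ?_⟩
  · rw [← K.data.img_mul K.tN K.yN, ← K.data.img_mul (mul_mem K.tN K.yN) (mul_mem K.tN K.yN),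
      show t * y * (t * y) = t * (y * t) * y by group, ← K.ty,
      show t * (t * y) * y = (t * t) * (y * y) by group, K.t2, K.y2, one_mul]
    exact K.data.img_A (one_mem A)
  · rw [← inv_eq_of_mul_eq_one_right h, inv_eq_of_mul_eq_one_right K.it.1]

/-- The three outer images. -/
theorem three_cases {x : G} (hx : x ∈ normalizer (A : Set G)) (hix : Inv2 (img φ x))
    (hfx : f ∈ cA A x) :
    img φ x = img φ t ∨ img φ x = img φ y ∨ img φ x = img φ (t * y) :=
  K.data.img_fix K.tS K.yS K.it K.iy K.ne K.f1 K.ft K.fy hx hix hfx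

/-- Two different outer images have only `f` as a common fixed point. -/
theorem cA_ne {x z : G} (hx : x = t ∨ x = y ∨ x = t * y) (hz : z = t ∨ z = y ∨ z = t * y)
    (h : img φ x ≠ img φ z) : ¬ cA A x ≤ cA A z := by
  have hmem : ∀ w, w = t ∨ w = y ∨ w = t * y → w ∈ (S : Subgroup G) ∧ Inv2 (img φ w) := by
    rintro w (rfl | rfl | rfl)
    · exact ⟨K.tS, K.it⟩
    · exact ⟨K.yS, K.iy⟩
    · exact ⟨mul_mem K.tS K.yS, K.itw⟩
  obtain ⟨hxS, hix⟩ := hmem x hx
  obtain ⟨hzS, hiz⟩ := hmem z hz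
  intro hle
  have hxf : cA A x ≤ zpowers f := fun b hb => by
    by_cases hb1 : b = 1
    · rw [hb1]; exact one_mem _
    · rw [K.data.fix_unique hxS hzS hix hiz h hb (hle hb)
        (mem_cA.2 ⟨K.fA, K.f_central hxS⟩) (mem_cA.2 ⟨K.fA, K.f_central hzS⟩) hb1 K.f1]
      exact mem_zpowers f
  have := Subgroup.card_le_of_le hxf
  rw [(K.data.card_cA (K.data.leN hxS) hix).1, Nat.card_zpowers] at this
  have := orderOf_le_of_pow_eq_one two_pos (K.data.ea.2 f K.fA)
  omega

theorem eight_le : eight A t y ≤ A := sup_le inf_le_left inf_le_left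

theorem f_mem_eight : f ∈ eight A t y := mem_sup_left K.ft

theorem eight_mul {e : G} (he : e ∈ eight A t y) : ∃ c ∈ cA A t, ∃ d ∈ cA A y, c * d = e := by
  rw [eight, ← SetLike.mem_coe, coe_mul_of_right_le_normalizer_left (cA A t) (cA A y)
    ((inf_le_left : cA A y ≤ A).trans ((K.data.le_cent.trans
      (Subgroup.centralizer_le (inf_le_left : cA A t ≤ A))).trans (centralizer_le_normalizer _)))] at he
  obtain ⟨c, hc, d, hd, h⟩ := he
  exact ⟨c, hc, d, hd, h⟩

theorem conj_cA_y {c : G} (hc : c ∈ cA A y) : t * c * t⁻¹ ∈ cA A y := by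
  have h := (K.data.mem_cA_conj (x := y) K.tN).2 hc
  rwa [show t * y * t⁻¹ = y by rw [K.ty, mul_inv_cancel_right]] at h

theorem conj_cA_t {c : G} (hc : c ∈ cA A t) : y * c * y⁻¹ ∈ cA A t := by
  have h := (K.data.mem_cA_conj (x := t) K.yN).2 hc
  rwa [show y * t * y⁻¹ = t by rw [← K.ty, mul_inv_cancel_right]] at h

theorem cA_le_eight {x : G} (hx : x ∈ normalizer (A : Set G))
    (h : img φ x = img φ t ∨ img φ x = img φ y ∨ img φ x = img φ (t * y)) :
    cA A x ≤ eight A t y := by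
  rcases h with h | h | h
  · rw [K.data.cA_congr hx K.tN h]; exact le_sup_left
  · rw [K.data.cA_congr hx K.yN h]; exact le_sup_right
  · rw [K.data.cA_congr hx (mul_mem K.tN K.yN) h]
    intro c hc
    obtain ⟨b, hb, hbc⟩ := (K.data.card_cA (mul_mem K.tN K.yN) K.itw).2 c hc
    have htb : t * b * t⁻¹ ∈ A := (mem_normalizer_iff.1 K.tN b).1 hb
    have hyb : y * b * y⁻¹ ∈ A := (mem_normalizer_iff.1 K.yN b).1 hb
    have h1 : b * (t * b * t⁻¹) ∈ cA A t := mem_cA.2 ⟨mul_mem hb htb, by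
      calc b * (t * b * t⁻¹) * t = (t * b * t⁻¹) * b * t := by rw [K.data.comm hb htb]
        _ = t * (b * (t * b * t⁻¹)) := by rw [K.tinv]; group⟩
    have h2 : b * (y * b * y⁻¹) ∈ cA A y := mem_cA.2 ⟨mul_mem hb hyb, by
      calc b * (y * b * y⁻¹) * y = (y * b * y⁻¹) * b * y := by rw [K.data.comm hb hyb]
        _ = y * (b * (y * b * y⁻¹)) := by rw [K.yinv]; group⟩
    have h3 := mul_mem (mem_sup_left (T := cA A y) h1) (mem_sup_right (S := cA A t) (K.conj_cA_y h2))
    have he : b * (t * b * t⁻¹) * (t * (b * (y * b * y⁻¹)) * t⁻¹) = c := by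
      calc b * (t * b * t⁻¹) * (t * (b * (y * b * y⁻¹)) * t⁻¹)
          = b * (t * (b * b) * (y * b * y⁻¹) * t⁻¹) := by group
        _ = c := by rw [K.data.sq hb, ← hbc]; group
    rw [he] at h3
    exact h3

theorem eight_conj {m : G} (hm : m ∈ normalizer (A : Set G)) (hmf : m * f = f * m) {e : G}
    (he : e ∈ eight A t y) : m * e * m⁻¹ ∈ eight A t y := by
  have key : ∀ w, w ∈ normalizer (A : Set G) → Inv2 (img φ w) → f ∈ cA A w → ∀ c ∈ cA A w,
      m * c * m⁻¹ ∈ eight A t y := by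
    intro w hw hiw hfw c hc
    have hw' : m * w * m⁻¹ ∈ normalizer (A : Set G) := mul_mem (mul_mem hm hw) (inv_mem hm)
    refine K.cA_le_eight hw' (K.three_cases hw' ?_ ?_) ((K.data.mem_cA_conj hm).2 hc)
    · rw [K.data.img_conj hm hw]
      refine ⟨by
        calc img φ m * img φ w * (img φ m)⁻¹ * (img φ m * img φ w * (img φ m)⁻¹)
            = img φ m * (img φ w * img φ w) * (img φ m)⁻¹ := by group
          _ = 1 := by rw [hiw.1]; group, fun h => hiw.2 ?_⟩
      calc img φ w = (img φ m)⁻¹ * (img φ m * img φ w * (img φ m)⁻¹) * img φ m := by group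
        _ = 1 := by rw [h]; group
    · have := (K.data.mem_cA_conj hm).2 hfw
      rwa [hmf, mul_inv_cancel_right] at this
  obtain ⟨c, hc, d, hd, rfl⟩ := K.eight_mul he
  have := mul_mem (key t K.tN K.it K.ft c hc) (key y K.yN K.iy K.fy d hd)
  rwa [show m * c * m⁻¹ * (m * d * m⁻¹) = m * (c * d) * m⁻¹ by group] at this

theorem NF_le_normalizer :
    normalizer (A : Set G) ⊓ centralizer ({f} : Set G) ≤ normalizer (eight A t y : Set G) := by
  intro m hm
  obtain ⟨hm, hmf⟩ := mem_inf.1 hm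
  rw [mem_centralizer_singleton_iff] at hmf
  rw [← LEBasic.map_conj_eq_iff_mem_normalizer]
  refine eq_of_le_of_card_ge ?_ (LEBasic.card_map_conj _ m).ge
  rintro _ ⟨e, he, rfl⟩
  exact K.eight_conj hm hmf he

theorem S_le_normalizer : (S : Subgroup G) ≤ normalizer (eight A t y : Set G) :=
  (le_inf K.data.leN K.S_le_cent).trans K.NF_le_normalizer

theorem card_eight : Nat.card ↥(eight A t y) = 8 := by
  have h4 : Nat.card ↥(cA A t) < Nat.card ↥(eight A t y) := by
    refine Nat.lt_of_le_of_ne (Subgroup.card_le_of_le le_sup_left) fun h => ?_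
    exact K.cA_ne (Or.inr (Or.inl rfl)) (Or.inl rfl) K.ne.symm
      ((eq_of_le_of_card_ge (le_sup_left : cA A t ≤ eight A t y) h.ge).symm ▸
        (le_sup_right : cA A y ≤ eight A t y))
  have h16 : Nat.card ↥(eight A t y) < 16 := by
    classical
    haveI := Fintype.ofFinite ↥(eight A t y)
    haveI := Fintype.ofFinite (↥(cA A t) × ↥(cA A y))
    let m : ↥(cA A t) × ↥(cA A y) → ↥(eight A t y) := fun z =>
      ⟨z.1 * z.2, mul_mem (mem_sup_left z.1.2) (mem_sup_right z.2.2)⟩
    have hsurj : Function.Surjective m := fun e => by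
      obtain ⟨c, hc, d, hd, h⟩ := K.eight_mul e.2
      exact ⟨(⟨c, hc⟩, ⟨d, hd⟩), Subtype.ext h⟩
    have hnot : ¬ Function.Injective m := fun hinj => K.f1 (by
      have := hinj (a₁ := (⟨f, K.ft⟩, ⟨f, K.fy⟩)) (a₂ := (1, 1))
        (Subtype.ext (show f * f = (1 : G) * 1 by rw [K.data.sq K.fA, one_mul]))
      exact congrArg Subtype.val (Prod.ext_iff.1 this).1)
    have hlt := Fintype.card_lt_of_surjective_not_injective m hsurj hnot
    rw [← Nat.card_eq_fintype_card, ← Nat.card_eq_fintype_card, Nat.card_prod,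
      (K.data.card_cA K.tN K.it).1, (K.data.card_cA K.yN K.iy).1] at hlt
    exact hlt
  obtain ⟨k, hk, hk'⟩ := (Nat.dvd_prime_pow Nat.prime_two).1
    (show Nat.card ↥(eight A t y) ∣ 2 ^ 4 from by
      rw [show 2 ^ 4 = Nat.card A from K.data.card.symm]; exact card_dvd_of_le K.eight_le)
  rw [(K.data.card_cA K.tN K.it).1, hk'] at h4
  rw [hk'] at h16 ⊢
  interval_cases k <;> simp_all

theorem eight_le_cA {e : G} (he : e ∈ eight A t y) :
    ∃ w, (w = t ∨ w = y ∨ w = t * y) ∧ e ∈ cA A w := by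
  obtain ⟨c, hc, d, hd, rfl⟩ := K.eight_mul he
  by_cases hcy : c ∈ cA A y
  · exact ⟨y, Or.inr (Or.inl rfl), mul_mem hcy hd⟩
  by_cases hdt : d ∈ cA A t
  · exact ⟨t, Or.inl rfl, mul_mem hc hdt⟩
  refine ⟨t * y, Or.inr (Or.inr rfl), ?_⟩
  obtain ⟨hcA, hct⟩ := mem_cA.1 hc
  obtain ⟨hdA, hdy⟩ := mem_cA.1 hd
  have hyc : y * c * y⁻¹ = c * f := by
    have h1 : c * (y * c * y⁻¹) ∈ cA A t := mul_mem hc (K.conj_cA_t hc)
    have h2 : c * (y * c * y⁻¹) ∈ cA A y := mem_cA.2 ⟨(mem_cA.1 h1).1, by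
      calc c * (y * c * y⁻¹) * y = (y * c * y⁻¹) * c * y := by
            rw [K.data.comm hcA (mem_cA.1 (K.conj_cA_t hc)).1]
        _ = y * (c * (y * c * y⁻¹)) := by rw [K.yinv]; group⟩
    have hne : c * (y * c * y⁻¹) ≠ 1 := fun h => hcy (mem_cA.2 ⟨hcA, by
      rw [mul_eq_one_iff_inv_eq, K.data.inv hcA, eq_mul_inv_iff_mul_eq] at h
      exact h⟩)
    rw [← K.data.fix_unique K.tS K.yS K.it K.iy K.ne h1 h2 K.ft K.fy hne K.f1, ← mul_assoc,
      K.data.sq hcA, one_mul]
  have htd : t * d * t⁻¹ = d * f := by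
    have h1 : d * (t * d * t⁻¹) ∈ cA A y := mul_mem hd (K.conj_cA_y hd)
    have h2 : d * (t * d * t⁻¹) ∈ cA A t := mem_cA.2 ⟨(mem_cA.1 h1).1, by
      calc d * (t * d * t⁻¹) * t = (t * d * t⁻¹) * d * t := by
            rw [K.data.comm hdA (mem_cA.1 (K.conj_cA_y hd)).1]
        _ = t * (d * (t * d * t⁻¹)) := by rw [K.tinv]; group⟩
    have hne : d * (t * d * t⁻¹) ≠ 1 := fun h => hdt (mem_cA.2 ⟨hdA, by
      rw [mul_eq_one_iff_inv_eq, K.data.inv hdA, eq_mul_inv_iff_mul_eq] at h
      exact h⟩)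
    rw [← K.data.fix_unique K.tS K.yS K.it K.iy K.ne h2 h1 K.ft K.fy hne K.f1, ← mul_assoc,
      K.data.sq hdA, one_mul]
  refine mem_cA.2 ⟨mul_mem hcA hdA, ?_⟩
  have hconj : t * y * (c * d) * (t * y)⁻¹ = c * d := by
    calc t * y * (c * d) * (t * y)⁻¹ = t * ((y * c * y⁻¹) * (y * d * y⁻¹)) * t⁻¹ := by group
      _ = t * (c * f * d) * t⁻¹ := by rw [hyc, ← hdy, mul_inv_cancel_right]
      _ = (t * c * t⁻¹) * (t * f * t⁻¹) * (t * d * t⁻¹) := by group
      _ = c * f * (d * f) := by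
        rw [← hct, mul_inv_cancel_right, ← K.f_central K.tS, mul_inv_cancel_right, htd]
      _ = c * (f * d) * f := by group
      _ = c * d * (f * f) := by rw [K.data.comm K.fA hdA]; group
      _ = c * d := by rw [K.data.sq K.fA, mul_one]
  exact (mul_inv_eq_iff_eq_mul.1 hconj).symm

/-- A 2-subgroup containing `A` inside a subgroup. -/
theorem not_two_dvd {Y : Subgroup G} (hAY : A ≤ Y)
    (h : ∀ u ∈ Y, u ∈ normalizer (A : Set G) → TwoEl u → u ∈ A) : ¬ 2 ∣ A.relIndex Y := by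
  haveI : Fact (Nat.Prime 2) := ⟨Nat.prime_two⟩
  obtain ⟨P, hP⟩ := (K.data.isP.comap_subtype (K := Y)).exists_le_sylow
  have hAP : A ≤ (P : Subgroup ↥Y).map Y.subtype := fun b hb =>
    ⟨⟨b, hAY hb⟩, hP (mem_subgroupOf.2 hb), rfl⟩
  have he : A = (P : Subgroup ↥Y).map Y.subtype :=
    LESylow.eq_of_normalizer_inf_le (P.2.map _) hAP fun u hu => h u
      (map_subtype_le _ (mem_inf.1 hu).1) (mem_inf.1 hu).2 (TwoEl.of_group (P.2.map _) (mem_inf.1 hu).1)
  have : A.subgroupOf Y = (P : Subgroup ↥Y) := by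
    rw [he]
    exact comap_map_eq_self_of_injective Y.subtype_injective _
  rw [Subgroup.relIndex, this]
  exact P.not_dvd_index

theorem cent_eight_img {n : G} (hn : n ∈ normalizer (A : Set G))
    (hc : n ∈ centralizer (eight A t y : Set G)) : img φ n = 1 := by
  have hfix : ∀ e ∈ eight A t y, n * e * n⁻¹ = e := fun e he => by
    rw [← mem_centralizer_iff.1 hc e he, mul_inv_cancel_right]
  have ht' : n * t * n⁻¹ ∈ normalizer (A : Set G) := mul_mem (mul_mem hn K.tN) (inv_mem hn)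
  have hle : cA A t ≤ cA A (n * t * n⁻¹) := fun c hc => by
    have := (K.data.mem_cA_conj (x := t) hn).2 hc
    rwa [hfix c (mem_sup_left hc)] at this
  have hit' : Inv2 (img φ (n * t * n⁻¹)) := by
    rw [K.data.img_conj hn K.tN]
    refine ⟨by
      calc img φ n * img φ t * (img φ n)⁻¹ * (img φ n * img φ t * (img φ n)⁻¹)
          = img φ n * (img φ t * img φ t) * (img φ n)⁻¹ := by group
        _ = 1 := by rw [K.it.1]; group, fun h => K.it.2 ?_⟩
    calc img φ t = (img φ n)⁻¹ * (img φ n * img φ t * (img φ n)⁻¹) * img φ n := by group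
      _ = 1 := by rw [h]; group
  have heq : img φ (n * t * n⁻¹) = img φ t := by
    rcases K.three_cases ht' hit' (hle K.ft) with h | h | h
    · exact h
    · exact absurd (hle.trans (K.data.cA_congr ht' K.yN h).le)
        (K.cA_ne (Or.inl rfl) (Or.inr (Or.inl rfl)) K.ne)
    · refine absurd (hle.trans (K.data.cA_congr ht' (mul_mem K.tN K.yN) h).le)
        (K.cA_ne (Or.inl rfl) (Or.inr (Or.inr rfl)) fun e => K.iy.2 ?_)
      rw [K.data.img_mul K.tN K.yN] at e
      exact mul_eq_left.1 e.symm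
  rw [K.data.img_conj hn K.tN, mul_inv_eq_iff_eq_mul] at heq
  rcases K.data.img_comm K.tS K.yS K.it K.iy K.ne (Or.inl rfl) heq with h | h | h | h
  · exact h
  all_goals
    exfalso
    have hbig : eight A t y ≤ cA A n := fun e he =>
      mem_cA.2 ⟨K.eight_le he, mem_centralizer_iff.1 hc e he⟩
    have hi : Inv2 (img φ n) := h ▸ (by first | exact K.it | exact K.iy | exact K.itw)
    have := Subgroup.card_le_of_le hbig
    rw [K.card_eight, (K.data.card_cA hn hi).1] at this
    omega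

theorem A_le_cent_eight : A ≤ centralizer (eight A t y : Set G) := fun _ hb =>
  mem_centralizer_iff.2 fun _ he => K.data.comm (K.eight_le he) hb

theorem cent_eight_facts :
    (∀ g ∈ centralizer (eight A t y : Set G), Odd (orderOf g) →
      g ∈ core (centralizer (eight A t y : Set G))) ∧
    centralizer (eight A t y : Set G) ≤ core (centralizer (eight A t y : Set G)) ⊔ A := by
  refine le_core_sup_abelian K.data.isP K.A_le_cent_eight
    (K.not_two_dvd K.A_le_cent_eight fun u hu huN h2 =>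
      K.data.mem_A_of_img huN h2 (K.cent_eight_img huN hu)) K.data.ea.1 fun g hg hgN _ =>
    (K.data.img_eq_one_iff hgN).1 (K.cent_eight_img hgN hg)

theorem cent_eight_le : centralizer (eight A t y : Set G) ≤ centralizer ({f} : Set G) := fun _ hg =>
  mem_centralizer_singleton_iff.2 (mem_centralizer_iff.1 hg f K.f_mem_eight).symm

theorem normalizer_eight_core :
    normalizer (eight A t y : Set G) ≤
      normalizer (core (centralizer (eight A t y : Set G)) : Set G) :=
  (LELarge.normalizer_le_normalizer_centralizer _).trans (normalizer_le_normalizer_core _)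

/-- Frattini in the centralizer of `f`. -/
theorem frattini {g : G} (hg : g ∈ centralizer ({f} : Set G))
    (hgE : g ∈ normalizer (eight A t y : Set G)) :
    ∃ o ∈ core (centralizer (eight A t y : Set G)),
      ∃ m ∈ normalizer (A : Set G) ⊓ centralizer ({f} : Set G), g = o * m := by
  have hgA : A.map (MulAut.conj g).toMonoidHom ≤ centralizer (eight A t y : Set G) := by
    rintro _ ⟨b, hb, rfl⟩
    exact (mem_normalizer_iff.1 (LELarge.normalizer_le_normalizer_centralizer _ hgE) b).1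
      (K.A_le_cent_eight hb)
  obtain ⟨c, hc, T, hT, hAT, -, hcT⟩ :=
    exists_conj_over K.data.isP K.A_le_cent_eight (K.data.isP.map _) hgA
  have hcg : c * g ∈ normalizer (A : Set G) := K.data.mem_normalizer_of_le hT hAT fun b hb => by
    have := hcT _ ⟨b, hb, rfl⟩
    change c * (g * b * g⁻¹) * c⁻¹ ∈ T at this
    simpa [mul_assoc] using this
  have h1 : g ∈ core (centralizer (eight A t y : Set G)) ⊔
      (normalizer (A : Set G) ⊓ centralizer ({f} : Set G)) := by
    have h2 : c⁻¹ ∈ core (centralizer (eight A t y : Set G)) ⊔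
        (normalizer (A : Set G) ⊓ centralizer ({f} : Set G)) :=
      sup_le_sup_left (le_inf Subgroup.le_normalizer K.A_le_cent) _
        (K.cent_eight_facts.2 (inv_mem hc))
    have h3 := mul_mem h2 (mem_sup_right (S := core (centralizer (eight A t y : Set G)))
      (mem_inf.2 ⟨hcg, mul_mem (K.cent_eight_le hc) hg⟩))
    simpa using h3
  rw [← SetLike.mem_coe, coe_mul_of_right_le_normalizer_left _ _
    (K.NF_le_normalizer.trans K.normalizer_eight_core)] at h1
  obtain ⟨o, ho, m, hm, he⟩ := h1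
  exact ⟨o, ho, m, hm, he.symm⟩

/-! ### The subgroup of order thirty-two -/

theorem four_cases {v : G} (hv : v ∈ zpowers t ⊔ zpowers y) :
    v = 1 ∨ v = t ∨ v = y ∨ v = t * y := by
  rw [← SetLike.mem_coe, coe_mul_of_right_le_normalizer_left _ _ (zpowers_le.2
    (LESylow.centralizer_le_normalizer_zpowers t (mem_centralizer_singleton_iff.2 K.ty.symm)))] at hv
  obtain ⟨p, hp, q, hq, rfl⟩ := hv
  rcases zpowers_cases K.t2 hp with rfl | rfl <;> rcases zpowers_cases K.y2 hq with rfl | rfl <;> simp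

theorem thirtytwo_cases {q : G} (hq : q ∈ thirtytwo A t y) :
    ∃ e ∈ eight A t y, ∃ v, (v = 1 ∨ v = t ∨ v = y ∨ v = t * y) ∧ q = e * v := by
  rw [thirtytwo, ← SetLike.mem_coe, coe_mul_of_right_le_normalizer_left _ _
    (sup_le (zpowers_le.2 (K.S_le_normalizer K.tS)) (zpowers_le.2 (K.S_le_normalizer K.yS)))] at hq
  obtain ⟨e, he, v, hv, rfl⟩ := hq
  exact ⟨e, he, v, K.four_cases hv, rfl⟩

theorem thirtytwo_le : thirtytwo A t y ≤ (S : Subgroup G) :=
  sup_le (K.eight_le.trans K.data.le) (sup_le (zpowers_le.2 K.tS) (zpowers_le.2 K.yS))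

theorem t_mem : t ∈ thirtytwo A t y := mem_sup_right (mem_sup_left (mem_zpowers t))

theorem y_mem : y ∈ thirtytwo A t y := mem_sup_right (mem_sup_right (mem_zpowers y))

theorem thirtytwo_inf {q : G} (hq : q ∈ thirtytwo A t y) (hqA : q ∈ A) : q ∈ eight A t y := by
  obtain ⟨e, he, v, hv, rfl⟩ := K.thirtytwo_cases hq
  have hvA : v ∈ A := by simpa using mul_mem (inv_mem (K.eight_le he)) hqA
  rcases hv with rfl | rfl | rfl | rfl
  · simpa using he
  · exact absurd (K.data.img_A hvA) K.it.2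
  · exact absurd (K.data.img_A hvA) K.iy.2
  · exact absurd (K.data.img_A hvA) K.itw.2

theorem card_of_ty {X : Subgroup G} (hX : X ≤ (S : Subgroup G)) (ht : t ∈ X) (hy : y ∈ X) :
    Nat.card X = 4 * Nat.card ↥(A ⊓ X) := by
  classical
  let g : ↥X →* A5 := φ.comp (Subgroup.inclusion (hX.trans K.data.leN))
  have hg : ∀ x : ↥X, g x = img φ (x : G) := fun x =>
    (Data.img_of_mem (φ := φ) (K.data.leN (hX x.2))).symm
  have hker : g.ker = A.subgroupOf X := by
    ext x
    rw [MonoidHom.mem_ker, hg, mem_subgroupOf]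
    exact ⟨K.data.mem_A_of_img (K.data.leN (hX x.2)) (TwoEl.of_group S.2 (hX x.2)), K.data.img_A⟩
  have hran : (g.range : Set A5) =
      ↑({1, img φ t, img φ y, img φ (t * y)} : Finset A5) := by
    ext w
    simp only [SetLike.mem_coe, Finset.coe_insert, Finset.coe_singleton, Set.mem_insert_iff,
      Set.mem_singleton_iff]
    constructor
    · rintro ⟨x, rfl⟩
      rw [hg]
      exact (K.data.img_S K.tS K.yS (hX x.2) K.it K.iy K.ne).2
    · rintro (rfl | rfl | rfl | rfl)
      · exact one_mem _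
      · exact ⟨⟨t, ht⟩, hg _⟩
      · exact ⟨⟨y, hy⟩, hg _⟩
      · exact ⟨⟨t * y, mul_mem ht hy⟩, hg _⟩
  have hcr : Nat.card g.range = 4 := by
    have h1 : (g.range : Set A5).ncard = Nat.card g.range := (Nat.card_coe_set_eq _).symm
    rw [← h1, hran, Set.ncard_coe_finset]
    have e1 : (1 : A5) ≠ img φ t := fun h => K.it.2 h.symm
    have e2 : (1 : A5) ≠ img φ y := fun h => K.iy.2 h.symm
    have e3 : (1 : A5) ≠ img φ (t * y) := fun h => K.itw.2 h.symm
    have e4 : img φ t ≠ img φ (t * y) := by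
      rw [K.data.img_mul K.tN K.yN]; exact fun h => K.iy.2 (mul_eq_left.1 h.symm)
    have e5 : img φ y ≠ img φ (t * y) := by
      rw [K.data.img_mul K.tN K.yN]; exact fun h => K.it.2 (mul_eq_right.1 h.symm)
    rw [Finset.card_insert_of_notMem (by simp [e1, e2, e3]),
      Finset.card_insert_of_notMem (by simp [K.ne, e4]),
      Finset.card_insert_of_notMem (by simp [e5]), Finset.card_singleton]
  have hk : Nat.card (A.subgroupOf X) = Nat.card ↥(A ⊓ X) := by
    rw [← Subgroup.inf_subgroupOf_right]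
    exact Nat.card_congr (subgroupOfEquivOfLe inf_le_right).toEquiv
  rw [← g.ker.index_mul_card, Subgroup.index_ker, hker, hcr, hk]

theorem card_S : Nat.card (S : Subgroup G) = 64 := by
  rw [K.card_of_ty le_rfl K.tS K.yS, inf_eq_left.2 K.data.le, K.data.card]

theorem card_thirtytwo : Nat.card ↥(thirtytwo A t y) = 32 := by
  rw [K.card_of_ty K.thirtytwo_le K.t_mem K.y_mem,
    show A ⊓ thirtytwo A t y = eight A t y from le_antisymm
      (fun q hq => K.thirtytwo_inf hq.2 hq.1) (le_inf K.eight_le le_sup_left), K.card_eight]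

theorem sq_mem {q : G} (hq : q ∈ thirtytwo A t y) : q * q ∈ zpowers f := by
  have base : ∀ v, v = t ∨ v = y → ∀ e ∈ eight A t y, e * (v * e * v⁻¹) ∈ zpowers f := by
    intro v hv e he
    obtain ⟨c, hc, d, hd, rfl⟩ := K.eight_mul he
    obtain ⟨hcA, hct⟩ := mem_cA.1 hc
    obtain ⟨hdA, hdy⟩ := mem_cA.1 hd
    rcases hv with rfl | rfl
    · have hd' := K.conj_cA_y hd
      have e1 : v * (c * d) * v⁻¹ = c * (v * d * v⁻¹) := by
        rw [show v * (c * d) * v⁻¹ = (v * c * v⁻¹) * (v * d * v⁻¹) by group, ← hct,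
          mul_inv_cancel_right]
      rw [e1, show c * d * (c * (v * d * v⁻¹)) = c * (d * c) * (v * d * v⁻¹) by group,
        K.data.comm hdA hcA, ← mul_assoc c c d, K.data.sq hcA, one_mul]
      refine K.f_unique (mem_cA.2 ⟨mul_mem hdA (mem_cA.1 hd').1, ?_⟩) (mul_mem hd hd')
      calc d * (v * d * v⁻¹) * v = (v * d * v⁻¹) * d * v := by rw [K.data.comm hdA (mem_cA.1 hd').1]
        _ = v * (d * (v * d * v⁻¹)) := by rw [K.tinv]; group
    · have hc' := K.conj_cA_t hc
      have e1 : v * (c * d) * v⁻¹ = (v * c * v⁻¹) * d := by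
        rw [show v * (c * d) * v⁻¹ = (v * c * v⁻¹) * (v * d * v⁻¹) by group, ← hdy,
          mul_inv_cancel_right]
      rw [e1, show c * d * (v * c * v⁻¹ * d) = c * (d * (v * c * v⁻¹)) * d by group,
        K.data.comm hdA (mem_cA.1 hc').1,
        show c * (v * c * v⁻¹ * d) * d = c * (v * c * v⁻¹) * (d * d) by group, K.data.sq hdA, mul_one]
      refine K.f_unique (mul_mem hc hc') (mem_cA.2 ⟨mul_mem hcA (mem_cA.1 hc').1, ?_⟩)
      calc c * (v * c * v⁻¹) * v = (v * c * v⁻¹) * c * v := by rw [K.data.comm hcA (mem_cA.1 hc').1]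
        _ = v * (c * (v * c * v⁻¹)) := by rw [K.yinv]; group
  obtain ⟨e, he, v, hv, rfl⟩ := K.thirtytwo_cases hq
  have heA := K.eight_le he
  rcases hv with hv | hv | hv | hv <;> subst v
  · rw [mul_one, K.data.sq heA]; exact one_mem _
  · have := base t (Or.inl rfl) e he
    rw [show e * t * (e * t) = e * (t * e * t) by group]
    rwa [K.tinv] at this
  · have := base y (Or.inr rfl) e he
    rw [show e * y * (e * y) = e * (y * e * y) by group]
    rwa [K.yinv] at this
  · have h1 := base t (Or.inl rfl) e he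
    have h2 := base y (Or.inr rfl) e he
    have h3 : t * (e * (y * e * y⁻¹)) * t⁻¹ = e * (y * e * y⁻¹) := by
      obtain ⟨i, hi⟩ := h2
      rw [← hi]
      show t * f ^ i * t⁻¹ = f ^ i
      rw [← conj_zpow, ← K.f_central K.tS, mul_inv_cancel_right]
    have h4 : e * (t * y) * (e * (t * y)) = (e * (t * e * t⁻¹)) * (t * (e * (y * e * y⁻¹)) * t⁻¹) := by
      calc e * (t * y) * (e * (t * y)) = e * (t * (y * e * (t * y))) := by group
        _ = e * (t * (y * e * (y * t))) := by rw [K.ty]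
        _ = e * (t * ((e * e) * (y * e * y⁻¹)) * t⁻¹) := by
          rw [K.data.sq heA, one_mul, K.yinv, K.tinv]; group
        _ = _ := by group
    rw [h4, h3]
    exact mul_mem h1 h2

/-! ### The centralizer of `f` -/

theorem exists_conj_ty : ∃ n ∈ normalizer (A : Set G) ⊓ centralizer ({f} : Set G),
    n * t * n⁻¹ = y := by
  obtain ⟨n, hn, he⟩ := K.data.outside_conj K.yN K.tN K.y2 K.t2
    (fun h => K.iy.2 (K.data.img_A h)) K.tnA
  refine ⟨n, mem_inf.2 ⟨hn, mem_centralizer_singleton_iff.2 (mul_inv_eq_iff_eq_mul.1 ?_)⟩, he⟩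
  refine K.data.fix_orbit K.tS K.yS K.it K.iy K.ne K.f1 K.ft K.fy K.yN K.iy ⟨n, hn, rfl⟩
    (orb_self A f) ?_ K.fy
  have := (K.data.mem_cA_conj (x := t) hn).2 K.ft
  rwa [he] at this

theorem exists_conj_tty : ∃ n ∈ normalizer (A : Set G) ⊓ centralizer ({f} : Set G),
    n * t * n⁻¹ = t * y := by
  have h2 : t * y * (t * y) = 1 := by
    rw [show t * y * (t * y) = t * (y * t) * y by group, ← K.ty,
      show t * (t * y) * y = (t * t) * (y * y) by group, K.t2, K.y2, one_mul]
  obtain ⟨n, hn, he⟩ := K.data.outside_conj (mul_mem K.tN K.yN) K.tN h2 K.t2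
    (fun h => K.itw.2 (K.data.img_A h)) K.tnA
  refine ⟨n, mem_inf.2 ⟨hn, mem_centralizer_singleton_iff.2 (mul_inv_eq_iff_eq_mul.1 ?_)⟩, he⟩
  have hf : f ∈ cA A (t * y) := mem_cA.2 ⟨K.fA, K.f_central (mul_mem K.tS K.yS)⟩
  refine K.data.fix_orbit K.tS K.yS K.it K.iy K.ne K.f1 K.ft K.fy (mul_mem K.tN K.yN) K.itw
    ⟨n, hn, rfl⟩ (orb_self A f) ?_ hf
  have := (K.data.mem_cA_conj (x := t) hn).2 K.ft
  rwa [he] at this

theorem exists_outside_eight : ∃ b ∈ A, b ∉ eight A t y := by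
  by_contra! h
  have := Subgroup.card_le_of_le (fun x hx => h x hx : A ≤ eight A t y)
  rw [K.data.card, K.card_eight] at this
  omega

/-- The subgroup of index two of the centralizer of `f`. -/
theorem exists_index_two : ∃ L : Subgroup G, L ≤ centralizer ({f} : Set G) ∧
    centralizer ({f} : Set G) ≤ normalizer (L : Set G) ∧ thirtytwo A t y ≤ L ∧
    centralizer ({f} : Set G) ≤ L ⊔ A ∧ ¬ 2 ∣ (thirtytwo A t y).relIndex L := by
  haveI : Fact (Nat.Prime 2) := ⟨Nat.prime_two⟩
  set C := centralizer ({f} : Set G) with hC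
  set Q := thirtytwo A t y with hQ
  have hQC : Q ≤ C := K.thirtytwo_le.trans K.S_le_cent
  obtain ⟨b, hb, hbE⟩ := K.exists_outside_eight
  have hbC : b ∈ C := K.A_le_cent hb
  have hb2 : orderOf (⟨b, hbC⟩ : ↥C) = 2 := by
    rw [orderOf_mk]
    exact K.data.orderOf_two hb fun h => hbE (h ▸ one_mem _)
  have hrel : Q.relIndex (S : Subgroup G) = 2 := by
    have h32 : Nat.card Q = 32 := K.card_thirtytwo
    have := PBasic.card_mul_relIndex (K.thirtytwo_le : Q ≤ (S : Subgroup G))
    rw [h32, K.card_S] at this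
    show (thirtytwo A t y).relIndex (S : Subgroup G) = 2
    omega
  set k := (S : Subgroup G).relIndex C with hk
  have hk2 : ¬ 2 ∣ k := fun h => S.not_dvd_index (h.trans (relIndex_dvd_index_of_le K.S_le_cent))
  have hidx : (Q.subgroupOf C).index = 2 ^ (0 + 1) * k := by
    rw [hk, show 2 ^ (0 + 1) = Q.relIndex (S : Subgroup G) from hrel.symm,
      relIndex_mul_relIndex _ _ _ K.thirtytwo_le K.S_le_cent]
    rfl
  have hno : ∀ g : ↥C, g⁻¹ * (⟨b, hbC⟩ : ↥C) ^ 2 ^ 0 * g ∉ Q.subgroupOf C := by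
    intro g hg
    rw [pow_zero, pow_one, mem_subgroupOf] at hg
    have hg' : (g : G)⁻¹ * b * (g : G)⁻¹⁻¹ ∈ Q := by simpa using hg
    have hA' := K.closed b hb _ (K.data.leN (K.thirtytwo_le hg'))
    obtain ⟨n, hn, hnC, hne⟩ := K.data.control K.A_le_cent (inv_mem g.2) hb hA'
    have hnE : n⁻¹ ∈ normalizer (eight A t y : Set G) :=
      inv_mem (K.NF_le_normalizer (mem_inf.2 ⟨hn, hnC⟩))
    have := (mem_normalizer_iff.1 hnE (n * b * n⁻¹)).1 (hne ▸ K.thirtytwo_inf hg' hA')
    exact hbE (by simpa [mul_assoc] using this)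
  obtain ⟨χ, hχ⟩ := SignThompson.exists_sign_hom (Q.subgroupOf C) ⟨b, hbC⟩ 0 k
    (by rw [hb2]; rfl) hno (Nat.odd_iff.2 (by omega)) hidx
  set L := χ.ker.map C.subtype with hL
  -- elements of `A` fixed by an element normalising `A` lie in the kernel
  have hcA : ∀ w ∈ (S : Subgroup G), Inv2 (img φ w) → cA A w ≤ L := by
    intro w hw hiw c hc
    obtain ⟨d, hd, hdc⟩ := (K.data.card_cA (K.data.leN hw) hiw).2 c hc
    refine ⟨⟨c, K.A_le_cent (mem_cA.1 hc).1⟩, ?_, rfl⟩
    have : (⟨c, K.A_le_cent (mem_cA.1 hc).1⟩ : ↥C) =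
        ⟨d, K.A_le_cent hd⟩ * (⟨w, K.S_le_cent hw⟩ * ⟨d, K.A_le_cent hd⟩ *
          (⟨w, K.S_le_cent hw⟩ : ↥C)⁻¹) := Subtype.ext hdc.symm
    rw [SetLike.mem_coe, MonoidHom.mem_ker, this, map_mul, map_mul, map_mul, map_inv,
      mul_comm (χ ⟨w, _⟩) (χ ⟨d, _⟩), mul_inv_cancel_right, Int.units_mul_self]
  have hconj : ∀ n ∈ normalizer (A : Set G) ⊓ C, ∀ z (hz : z ∈ C) (hnz : n * z * n⁻¹ ∈ C),
      χ ⟨n * z * n⁻¹, hnz⟩ = χ ⟨z, hz⟩ := by
    intro n hn z hz hnz
    have : (⟨n * z * n⁻¹, hnz⟩ : ↥C) = ⟨n, (mem_inf.1 hn).2⟩ * ⟨z, hz⟩ *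
        (⟨n, (mem_inf.1 hn).2⟩ : ↥C)⁻¹ := rfl
    rw [this, map_mul, map_mul, map_inv, mul_comm (χ ⟨n, _⟩), mul_inv_cancel_right]
  obtain ⟨n₁, hn₁, e₁⟩ := K.exists_conj_ty
  obtain ⟨n₂, hn₂, e₂⟩ := K.exists_conj_tty
  have htC := K.S_le_cent K.tS
  have hyC := K.S_le_cent K.yS
  have hy' : χ ⟨y, hyC⟩ = χ ⟨t, htC⟩ := by
    rw [← hconj n₁ hn₁ t htC (e₁.symm ▸ hyC)]
    exact congrArg χ (Subtype.ext e₁.symm)
  have hty' : χ ⟨t, htC⟩ * χ ⟨y, hyC⟩ = χ ⟨t, htC⟩ := by
    rw [← map_mul, ← hconj n₂ hn₂ t htC (e₂.symm ▸ mul_mem htC hyC)]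
    exact congrArg χ (Subtype.ext e₂.symm)
  have ht1 : χ ⟨t, htC⟩ = 1 := by rw [← hy']; exact mul_eq_left.1 hty'
  have hQL : Q ≤ L :=
    sup_le (sup_le (hcA t K.tS K.it) (hcA y K.yS K.iy))
      (sup_le (zpowers_le.2 ⟨⟨t, htC⟩, ht1, rfl⟩) (zpowers_le.2 ⟨⟨y, hyC⟩, hy'.trans ht1, rfl⟩))
  refine ⟨L, map_subtype_le _, ?_, hQL, ?_, ?_⟩
  · have h := le_normalizer_map (H := χ.ker) C.subtype
    rw [normalizer_eq_top, ← MonoidHom.range_eq_map, range_subtype] at h
    exact h
  · intro g hg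
    rcases Int.units_eq_one_or (χ ⟨g, hg⟩) with h | h
    · exact mem_sup_left ⟨⟨g, hg⟩, h, rfl⟩
    · have h1 : g * b ∈ L := ⟨⟨g, hg⟩ * ⟨b, hbC⟩, by
        rw [SetLike.mem_coe, MonoidHom.mem_ker, map_mul, h, hχ]; rfl, rfl⟩
      simpa using mul_mem (mem_sup_left (T := A) h1) (mem_sup_right (S := L) (inv_mem hb))
  · have hker : χ.ker.index = 2 := by
      rw [Subgroup.index_ker]
      have : χ.range = ⊤ := by
        rw [eq_top_iff]
        intro z _
        rcases Int.units_eq_one_or z with rfl | rfl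
        · exact one_mem _
        · exact ⟨_, hχ⟩
      rw [this, Subgroup.card_top, Nat.card_eq_fintype_card]; rfl
    have h2 : Q.relIndex L * L.relIndex C = 2 * k := by
      rw [relIndex_mul_relIndex _ _ _ hQL (map_subtype_le _)]
      exact hidx.trans (by ring)
    have hLC : L.relIndex C = 2 := by
      rw [Subgroup.relIndex, hL, Subgroup.subgroupOf,
        comap_map_eq_self_of_injective C.subtype_injective, hker]
    rw [hLC, mul_comm] at h2
    rw [Nat.eq_of_mul_eq_mul_left two_pos h2]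
    exact hk2

theorem cent_f : centralizer ({f} : Set G) ≤
    core (centralizer ({f} : Set G)) ⊔ (normalizer (A : Set G) ⊓ centralizer ({f} : Set G)) := by
  haveI : Fact (Nat.Prime 2) := ⟨Nat.prime_two⟩
  obtain ⟨L, hLC, hLn, hQL, hCL, hLsyl⟩ := K.exists_index_two
  set C := centralizer ({f} : Set G) with hC
  set Q := thirtytwo A t y with hQ
  set E := eight A t y with hE
  have hfQ : f ∈ Q := mem_sup_left K.f_mem_eight
  have hfL : f ∈ L := hQL hfQ
  have hcen : ∀ g ∈ C, g * f = f * g := fun g hg => mem_centralizer_singleton_iff.1 hg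
  set F : Subgroup ↥L := zpowers ⟨f, hfL⟩ with hF
  have hFc : ∀ l : ↥L, ∀ z ∈ F, l * z = z * l := fun l z hz => by
    obtain ⟨i, rfl⟩ := hz
    exact (Commute.zpow_right (Subtype.ext (hcen l (hLC l.2)) : Commute l ⟨f, hfL⟩) i).eq
  haveI : F.Normal := ⟨fun z hz g => by rw [hFc g z hz, mul_inv_cancel_right]; exact hz⟩
  have hFmem : ∀ z : ↥L, z ∈ F ↔ (z : G) ∈ zpowers f := fun z => by
    constructor
    · rintro ⟨i, rfl⟩; exact ⟨i, rfl⟩
    · rintro ⟨i, hi⟩; exact ⟨i, Subtype.ext hi⟩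
  set mk := QuotientGroup.mk' F with hmk
  set Tb := (Q.subgroupOf L).map mk with hTb
  have hTidx : ¬ 2 ∣ Tb.index := fun h => hLsyl (h.trans
    (index_map_dvd _ (QuotientGroup.mk'_surjective F)))
  have hTp : IsPGroup 2 ↥Tb :=
    ((S.2.to_le K.thirtytwo_le).comap_of_injective L.subtype L.subtype_injective).map mk
  let T : Sylow 2 (↥L ⧸ F) := hTp.toSylow hTidx
  have hTc : (T : Subgroup (↥L ⧸ F)) = Tb := rfl
  -- preimage
  have hpre : ∀ z : ↥L, mk z ∈ Tb → (z : G) ∈ Q := by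
    rintro z ⟨q, hq, hqz⟩
    rw [hmk, QuotientGroup.mk'_eq_mk'] at hqz
    obtain ⟨w, hw, hwe⟩ := hqz
    rw [← hwe]
    exact mul_mem (mem_subgroupOf.1 hq) ((zpowers_le.2 hfQ) ((hFmem w).1 hw))
  have hsq : ∀ z ∈ Tb, z * z = 1 := by
    rintro _ ⟨q, hq, rfl⟩
    rw [← map_mul, hmk, QuotientGroup.mk'_apply, QuotientGroup.eq_one_iff, hFmem]
    exact K.sq_mem (mem_subgroupOf.1 hq)
  have hTea : Cfsg.IsElementaryAbelian 2 Tb := by
    refine ⟨⟨⟨fun p q => Subtype.ext ?_⟩⟩, fun z hz => by rw [pow_two]; exact hsq z hz⟩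
    show (p : ↥L ⧸ F) * q = q * p
    calc (p : ↥L ⧸ F) * q = ((p : ↥L ⧸ F) * q)⁻¹ :=
          (inv_eq_of_mul_eq_one_right (hsq _ (mul_mem p.2 q.2))).symm
      _ = _ := by
        rw [_root_.mul_inv_rev, inv_eq_of_mul_eq_one_right (hsq _ p.2),
          inv_eq_of_mul_eq_one_right (hsq _ q.2)]
  have hT16 : 16 ≤ Nat.card Tb := by
    let g := mk.comp (Q.subgroupOf L).subtype
    have hr : g.range = Tb := by rw [MonoidHom.range_comp, range_subtype]
    have hk : Nat.card g.ker ≤ 2 := by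
      refine (Nat.card_le_card_of_injective
        (fun z : g.ker => (⟨((z : Q.subgroupOf L) : ↥L), ?_⟩ : ↥F)) fun z w h =>
          Subtype.ext (Subtype.ext (congrArg Subtype.val h :))).trans ?_
      · have := z.2
        rw [MonoidHom.mem_ker, MonoidHom.comp_apply, hmk, QuotientGroup.mk'_apply,
          QuotientGroup.eq_one_iff] at this
        exact this
      · rw [hF, Nat.card_zpowers, orderOf_mk]
        exact orderOf_le_of_pow_eq_one two_pos (K.data.ea.2 f K.fA)
    have h := g.ker.index_mul_card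
    rw [Subgroup.index_ker, hr, Nat.card_congr (subgroupOfEquivOfLe hQL).toEquiv,
      K.card_thirtytwo] at h
    nlinarith
  -- normalizer of the image
  have hnQ : ∀ z : ↥L, mk z ∈ normalizer (Tb : Set (↥L ⧸ F)) →
      (z : G) ∈ normalizer (E : Set G) ∧ ∀ q ∈ Q, (z : G) * q * (z : G)⁻¹ ∈ Q := by
    intro z hz
    have hzQ : ∀ q ∈ Q, (z : G) * q * (z : G)⁻¹ ∈ Q := fun q hq =>
      hpre (z * ⟨q, hQL hq⟩ * z⁻¹) (by
        rw [map_mul, map_mul, map_inv]
        exact (mem_normalizer_iff.1 hz _).1 ⟨⟨q, hQL hq⟩, mem_subgroupOf.2 hq, rfl⟩)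
    refine ⟨?_, hzQ⟩
    rw [← LEBasic.map_conj_eq_iff_mem_normalizer]
    refine eq_of_le_of_card_ge ?_ (LEBasic.card_map_conj _ _).ge
    rintro _ ⟨e, he, rfl⟩
    have hq := hzQ e (mem_sup_left he)
    exact K.thirtytwo_inf hq (K.closed e (K.eight_le he) _ (K.data.leN (K.thirtytwo_le hq)))
  have hfpf : ∀ nb ∈ normalizer (Tb : Set (↥L ⧸ F)), Odd (orderOf nb) →
      ∀ xb ∈ Tb, xb ≠ 1 → nb * xb = xb * nb → nb ∈ centralizer (Tb : Set (↥L ⧸ F)) := by
    intro nb hnb ho xb hxb hxb1 hcomm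
    obtain ⟨n₀, rfl⟩ := QuotientGroup.mk'_surjective F nb
    obtain ⟨x, hx, rfl⟩ := hxb
    rw [SetLike.mem_coe, mem_subgroupOf] at hx
    obtain ⟨p, n, hpn, hp, -, hp2, hno⟩ := exists_parts n₀
    have hp1 : mk p = 1 := by
      obtain ⟨j, hj⟩ := hp2
      refine orderOf_eq_one_iff.1 (Nat.eq_one_of_dvd_coprimes
        (Nat.Coprime.pow_right j (Nat.coprime_two_right.2 ?_)) dvd_rfl
        (orderOf_dvd_of_pow_eq_one (by rw [← map_pow, hj, map_one])))
      obtain ⟨i, rfl⟩ := mem_zpowers_iff.1 hp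
      rw [map_zpow]
      exact Odd.of_dvd_nat ho (orderOf_dvd_of_pow_eq_one (by
        rw [← zpow_natCast, ← zpow_mul, mul_comm, zpow_mul, zpow_natCast, pow_orderOf_eq_one,
          one_zpow]))
    have hmn : mk n₀ = mk n := by rw [← hpn, map_mul, hp1, one_mul]
    rw [hmn] at hnb hcomm ⊢
    obtain ⟨hnE, hnQ'⟩ := hnQ n hnb
    obtain ⟨o, hoD, m, hm, hnm⟩ := K.frattini (hLC n.2) hnE
    obtain ⟨hmN, hmC⟩ := mem_inf.1 hm
    have hact : ∀ e ∈ E, (n : G) * e * (n : G)⁻¹ = m * e * m⁻¹ := fun e he => by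
      rw [hnm, show o * m * e * (o * m)⁻¹ = o * (m * e * m⁻¹) * o⁻¹ by group,
        ← mem_centralizer_iff.1 (core_le _ hoD) (m * e * m⁻¹)
          (K.eight_conj hmN (hcen m hmC) he), mul_inv_cancel_right]
    -- the commutator of `n` with `x`
    have hcx : (n : G) * x * (n : G)⁻¹ * (x : G)⁻¹ ∈ zpowers f := by
      have h1 : mk (n * x * n⁻¹ * x⁻¹) = 1 := by
        rw [map_mul, map_mul, map_mul, map_inv, map_inv, hcomm, mul_inv_cancel_right,
          mul_inv_cancel]
      rw [hmk, QuotientGroup.mk'_apply, QuotientGroup.eq_one_iff, hFmem] at h1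
      exact h1
    obtain ⟨w, hw, hpres⟩ : ∃ w, (w = t ∨ w = y ∨ w = t * y) ∧
        ∀ c ∈ cA A w, (n : G) * c * (n : G)⁻¹ ∈ cA A w := by
      have hwS : ∀ w, w = t ∨ w = y ∨ w = t * y → w ∈ (S : Subgroup G) ∧ Inv2 (img φ w) := by
        rintro w (rfl | rfl | rfl)
        · exact ⟨K.tS, K.it⟩
        · exact ⟨K.yS, K.iy⟩
        · exact ⟨mul_mem K.tS K.yS, K.itw⟩
      obtain ⟨e, he, v, hv, hxev⟩ := K.thirtytwo_cases hx
      rcases hv with hv | hv
      · rw [hv, mul_one] at hxev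
        obtain ⟨w, hw, hew⟩ := K.eight_le_cA he
        obtain ⟨hwS, hiw⟩ := hwS w hw
        refine ⟨w, hw, fun c hc => ?_⟩
        have hfw : zpowers f ≤ cA A w := zpowers_le.2 (mem_cA.2 ⟨K.fA, K.f_central hwS⟩)
        set U := zpowers f ⊔ zpowers e with hU
        have hUw : U ≤ cA A w := sup_le hfw (zpowers_le.2 hew)
        have hUeq : U = cA A w := by
          refine eq_of_le_of_card_ge hUw ?_
          rw [(K.data.card_cA (K.data.leN hwS) hiw).1]
          obtain ⟨j, hj⟩ := (K.data.isP.to_le (hUw.trans inf_le_left)).exists_card_eq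
          have hlt : Nat.card ↥(zpowers f) < Nat.card U := by
            refine Nat.lt_of_le_of_ne (Subgroup.card_le_of_le le_sup_left) fun h => hxb1 ?_
            have hef : e ∈ zpowers f := by
              rw [eq_of_le_of_card_ge (le_sup_left : zpowers f ≤ U) h.ge]
              exact mem_sup_right (mem_zpowers e)
            rw [hmk, QuotientGroup.mk'_apply, QuotientGroup.eq_one_iff, hFmem, hxev]
            exact hef
          rw [Nat.card_zpowers, K.data.orderOf_two K.fA K.f1, hj] at hlt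
          rw [hj]
          have : 2 ≤ j := by
            by_contra hj2
            interval_cases j <;> simp at hlt
          calc 4 = 2 ^ 2 := rfl
            _ ≤ 2 ^ j := Nat.pow_le_pow_right two_pos this
        rw [← hUeq] at hc ⊢
        have hnU : U ≤ U.comap (MulAut.conj (n : G)).toMonoidHom := by
          refine sup_le (zpowers_le.2 ?_) (zpowers_le.2 ?_)
          · show (n : G) * f * (n : G)⁻¹ ∈ U
            rw [hcen n (hLC n.2), mul_inv_cancel_right]
            exact mem_sup_left (mem_zpowers f)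
          · show (n : G) * e * (n : G)⁻¹ ∈ U
            rw [← hxev]
            simpa using mul_mem (mem_sup_left (T := zpowers e) hcx)
              (mem_sup_right (S := zpowers f) (show (x : G) ∈ zpowers e from hxev ▸ mem_zpowers e))
        exact hnU hc
      · refine ⟨v, hv, fun c hc => ?_⟩
        obtain ⟨hvS, hiv⟩ := hwS v hv
        have hcE : c ∈ E := K.cA_le_eight (K.data.leN hvS) (by
          rcases hv with rfl | rfl | rfl <;> simp) hc
        have hc'E : (n : G) * c * (n : G)⁻¹ ∈ E := (mem_normalizer_iff.1 hnE c).1 hcE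
        refine mem_cA.2 ⟨K.eight_le hc'E, ?_⟩
        obtain ⟨c', hc'⟩ : ∃ c', c' = (n : G) * c * (n : G)⁻¹ := ⟨_, rfl⟩
        obtain ⟨δ, hδ⟩ : ∃ δ, δ = (n : G) * x * (n : G)⁻¹ * (x : G)⁻¹ := ⟨_, rfl⟩
        rw [← hc'] at hc'E ⊢
        rw [← hδ] at hcx
        have hδc : δ * c' = c' * δ := by
          refine K.data.comm ?_ (K.eight_le hc'E)
          exact (zpowers_le.2 K.fA) hcx
        have hcx' : c * (x : G) = x * c := by
          rw [hxev, ← mul_assoc, K.data.comm (K.eight_le hcE) (K.eight_le he), mul_assoc,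
            (mem_cA.1 hc).2, ← mul_assoc]
        have h1 : c' * (δ * x) = δ * x * c' := by
          calc c' * (δ * x) = (n : G) * (c * x) * (n : G)⁻¹ := by rw [hc', hδ]; group
            _ = (n : G) * (x * c) * (n : G)⁻¹ := by rw [hcx']
            _ = δ * x * c' := by rw [hc', hδ]; group
        have h2 : c' * (x : G) = x * c' := by
          rw [← mul_assoc, ← hδc, mul_assoc, mul_assoc] at h1
          exact mul_left_cancel h1
        have h3 : c' * e = e * c' := K.data.comm (K.eight_le hc'E) (K.eight_le he)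
        rw [hxev, ← mul_assoc, h3, mul_assoc, mul_assoc] at h2
        exact mul_left_cancel h2
    have hwS : w ∈ (S : Subgroup G) ∧ Inv2 (img φ w) := by
      rcases hw with rfl | rfl | rfl
      · exact ⟨K.tS, K.it⟩
      · exact ⟨K.yS, K.iy⟩
      · exact ⟨mul_mem K.tS K.yS, K.itw⟩
    obtain ⟨hwS, hiw⟩ := hwS
    have hwN := K.data.leN hwS
    have hmw : m * w * m⁻¹ ∈ normalizer (A : Set G) := mul_mem (mul_mem hmN hwN) (inv_mem hmN)
    have hle : cA A (m * w * m⁻¹) ≤ cA A w := by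
      intro c' hc'
      set c := m⁻¹ * c' * m with hc
      have hcc : m * c * m⁻¹ = c' := by rw [hc]; group
      rw [← hcc] at hc' ⊢
      have hcw := (K.data.mem_cA_conj hmN).1 hc'
      rw [← hact c (K.cA_le_eight hwN (by rcases hw with rfl | rfl | rfl <;> simp) hcw)]
      exact hpres c hcw
    have hime : img φ (m * w * m⁻¹) = img φ w := by
      have hi' : Inv2 (img φ (m * w * m⁻¹)) := by
        rw [K.data.img_conj hmN hwN]
        refine ⟨by
          calc img φ m * img φ w * (img φ m)⁻¹ * (img φ m * img φ w * (img φ m)⁻¹)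
              = img φ m * (img φ w * img φ w) * (img φ m)⁻¹ := by group
            _ = 1 := by rw [hiw.1]; group, fun h => hiw.2 ?_⟩
        calc img φ w = (img φ m)⁻¹ * (img φ m * img φ w * (img φ m)⁻¹) * img φ m := by group
          _ = 1 := by rw [h]; group
      have hf' : f ∈ cA A (m * w * m⁻¹) := by
        have := (K.data.mem_cA_conj (x := w) hmN).2 (mem_cA.2 ⟨K.fA, K.f_central hwS⟩)
        rwa [hcen m hmC, mul_inv_cancel_right] at this
      by_contra hne
      rcases K.three_cases hmw hi' hf' with h | h | h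
      · exact K.cA_ne (Or.inl rfl) hw (h ▸ hne) (K.data.cA_congr K.tN hmw h.symm ▸ hle)
      · exact K.cA_ne (Or.inr (Or.inl rfl)) hw (h ▸ hne) (K.data.cA_congr K.yN hmw h.symm ▸ hle)
      · exact K.cA_ne (Or.inr (Or.inr rfl)) hw (h ▸ hne)
          (K.data.cA_congr (mul_mem K.tN K.yN) hmw h.symm ▸ hle)
    rw [K.data.img_conj hmN hwN, mul_inv_eq_iff_eq_mul] at hime
    have hm2 : img φ m * img φ m = 1 := by
      rcases K.data.img_comm K.tS K.yS K.it K.iy K.ne (p := img φ w)
        (by rcases hw with rfl | rfl | rfl <;> simp) hime with h | h | h | h <;> rw [h]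
      · rw [one_mul]
      · exact K.it.1
      · exact K.iy.1
      · exact K.itw.1
    have hmm : m * m ∈ centralizer (A : Set G) :=
      (K.data.img_eq_one_iff (mul_mem hmN hmN)).1 (by rw [K.data.img_mul hmN hmN, hm2])
    have hnc : (n : G) ∈ centralizer (E : Set G) := by
      refine mem_of_sq_mem ?_ (by rw [orderOf_coe]; exact hno)
      rw [hnm, show o * m * (o * m) = o * (m * o * m⁻¹) * (m * m) by group]
      refine mul_mem (mul_mem (core_le _ hoD) ?_) (Subgroup.centralizer_le K.eight_le hmm)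
      exact core_le _ ((mem_normalizer_iff.1 (K.normalizer_eight_core
        (K.NF_le_normalizer hm)) o).1 hoD)
    have hnD := K.cent_eight_facts.1 _ hnc (by rw [orderOf_coe]; exact hno)
    refine mem_centralizer_iff.2 ?_
    rintro _ ⟨q, hq, rfl⟩
    rw [SetLike.mem_coe, mem_subgroupOf] at hq
    have hcq : (n : G) * q * (n : G)⁻¹ * (q : G)⁻¹ = 1 := by
      refine (TwoEl.of_group S.2 (K.thirtytwo_le (mul_mem (hnQ' q hq) (inv_mem hq)))).eq_one_of_odd
        (odd_orderOf_of_mem (core_odd (centralizer (E : Set G))) ?_)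
      rw [show (n : G) * q * (n : G)⁻¹ * (q : G)⁻¹ = n * ((q : G) * (n : G)⁻¹ * (q : G)⁻¹) by group]
      exact mul_mem hnD ((mem_normalizer_iff.1 (K.normalizer_eight_core
        (K.S_le_normalizer (K.thirtytwo_le hq))) _).1 (inv_mem hnD))
    rw [mul_inv_eq_one, mul_inv_eq_iff_eq_mul] at hcq
    rw [← map_mul, ← map_mul]
    exact congrArg mk (Subtype.ext hcq.symm)
  -- two non-conjugate involutions
  have haE : a ∈ E := mem_sup_left K.at'
  have hafne : a ∉ zpowers f := fun h => by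
    rcases zpowers_cases (K.data.sq K.fA) h with h | h
    · exact K.a1 h
    · exact K.af (h ▸ orb_self A f)
  let la : ↥L := ⟨a, hQL (mem_sup_left haE)⟩
  let lt : ↥L := ⟨t, hQL K.t_mem⟩
  have hne : ∀ g : ↥L ⧸ F, g * mk lt * g⁻¹ ≠ mk la := by
    intro gb h
    obtain ⟨g, rfl⟩ := QuotientGroup.mk'_surjective F gb
    rw [← map_inv, ← map_mul, ← map_mul, hmk, QuotientGroup.mk'_eq_mk'] at h
    obtain ⟨z, hz, hze⟩ := h
    have hα : (g : G) * t * (g : G)⁻¹ ∈ A := by
      have h1 : (g : G) * t * (g : G)⁻¹ * (z : G) = a := congrArg Subtype.val hze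
      rw [eq_mul_inv_of_mul_eq h1]
      exact mul_mem K.aA (inv_mem ((zpowers_le.2 K.fA) ((hFmem z).1 hz)))
    refine K.tnA ?_
    have h2 := K.closed _ hα (g : G)⁻¹ (by
      rw [show (g : G)⁻¹ * ((g : G) * t * (g : G)⁻¹) * (g : G)⁻¹⁻¹ = t by group]; exact K.tN)
    rwa [show (g : G)⁻¹ * ((g : G) * t * (g : G)⁻¹) * (g : G)⁻¹⁻¹ = t by group] at h2
  have hne1 : ∀ (z : ↥L), (z : G) ∉ zpowers f → mk z ≠ 1 := fun z hz h => by
    rw [hmk, QuotientGroup.mk'_apply, QuotientGroup.eq_one_iff, hFmem] at h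
    exact hz h
  have hmain := oddCore_sup_normalizer T (hTc ▸ hTea) (by rw [hTc]; omega) (hTc ▸ hfpf)
    (a := mk la) (d := mk lt) (hTc ▸ ⟨la, mem_subgroupOf.2 (mem_sup_left haE), rfl⟩)
    (hne1 la hafne) (hTc ▸ ⟨lt, mem_subgroupOf.2 K.t_mem, rfl⟩)
    (hne1 lt fun h => K.tnA ((zpowers_le.2 K.fA) h)) hne
  rw [hTc] at hmain
  -- the preimage of the odd core
  set W := ((Cfsg.oddCore (↥L ⧸ F)).comap mk).map L.subtype with hW
  have hWL : W ≤ L := map_subtype_le _
  have hfW : zpowers f ≤ W := zpowers_le.2 ⟨⟨f, hfL⟩, by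
    rw [SetLike.mem_coe, mem_comap, hmk, QuotientGroup.mk'_apply,
      (QuotientGroup.eq_one_iff _).2 (mem_zpowers _)]
    exact one_mem _, rfl⟩
  have hcW : Nat.card W = Nat.card F * Nat.card (Cfsg.oddCore (↥L ⧸ F)) := by
    rw [hW, card_subtype]
    set W₀ := (Cfsg.oddCore (↥L ⧸ F)).comap mk
    have h := (mk.comp W₀.subtype).ker.index_mul_card
    rw [Subgroup.index_ker, MonoidHom.range_comp, range_subtype,
      map_comap_eq_self_of_surjective (QuotientGroup.mk'_surjective F)] at h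
    have hk : Nat.card (mk.comp W₀.subtype).ker = Nat.card F := by
      refine Nat.card_eq_of_bijective
        (fun z : (mk.comp W₀.subtype).ker => (⟨((z : W₀) : ↥L), ?_⟩ : ↥F)) ⟨fun z w h =>
          Subtype.ext (Subtype.ext (congrArg Subtype.val h :)), fun z => ?_⟩
      · exact (QuotientGroup.eq_one_iff _).1 (MonoidHom.mem_ker.1 z.2)
      · have hz : mk (z : ↥L) = 1 := (QuotientGroup.eq_one_iff _).2 z.2
        exact ⟨⟨⟨z, show mk (z : ↥L) ∈ Cfsg.oddCore (↥L ⧸ F) from hz ▸ one_mem _⟩, hz⟩, rfl⟩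
    rw [← h, hk, mul_comm]
  have hFcard : Nat.card F = 2 := by
    rw [hF, Nat.card_zpowers, orderOf_mk, K.data.orderOf_two K.fA K.f1]
  have hWsyl : ¬ 2 ∣ (zpowers f).relIndex W := by
    have h := PBasic.card_mul_relIndex hfW
    rw [hcW, hFcard, Nat.card_zpowers, K.data.orderOf_two K.fA K.f1] at h
    rw [Nat.eq_of_mul_eq_mul_left two_pos h, ← Nat.prime_two.coprime_iff_not_dvd]
    exact (PBasic.pPrimeCore_coprime 2 _).symm
  obtain ⟨-, hWc⟩ := le_core_sup_abelian (T := zpowers f)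
    (K.data.isP.to_le (zpowers_le.2 K.fA)) hfW hWsyl inferInstance fun g hg _ _ =>
      mem_centralizer_iff.2 fun z hz => by
        obtain ⟨i, rfl⟩ := hz
        exact (Commute.zpow_left ((hcen g (hLC (hWL hg))).symm : Commute f g) i).eq
  have hWn : L ≤ normalizer (W : Set G) := by
    have h := le_normalizer_map (H := (Cfsg.oddCore (↥L ⧸ F)).comap mk) L.subtype
    rw [normalizer_eq_top, ← MonoidHom.range_eq_map, range_subtype] at h
    exact h
  set X := core C with hX
  have hWX : core W ≤ X := by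
    refine le_trans (le_core ((core_le W).trans hWL) (hWn.trans (normalizer_le_normalizer_core W))
      (core_odd W)) ?_
    exact le_core ((core_le L).trans hLC) (hLn.trans (normalizer_le_normalizer_core L)) (core_odd L)
  set N₁ := C ⊓ normalizer (E : Set G) with hN₁
  have hCX : C ≤ X ⊔ N₁ := by
    refine hCL.trans (sup_le (fun l hl => ?_)
      (le_sup_of_le_right (le_inf K.A_le_cent (K.data.le.trans K.S_le_normalizer))))
    have h1 := hmain (mem_top (mk ⟨l, hl⟩))
    rw [← SetLike.mem_coe, Subgroup.normal_mul] at h1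
    obtain ⟨ob, hob, nb, hnb, he⟩ := h1
    obtain ⟨o', ho'⟩ := QuotientGroup.mk'_surjective F ob
    set n' : ↥L := o'⁻¹ * ⟨l, hl⟩ with hn'
    have hn : mk n' = nb := by rw [hn', map_mul, map_inv, ← he, ← ho', inv_mul_cancel_left]
    have h2 : (o' : G) ∈ X ⊔ N₁ := by
      have : (o' : G) ∈ W := ⟨o', show mk o' ∈ _ from ho'.symm ▸ hob, rfl⟩
      refine sup_le (hWX.trans le_sup_left) ?_ (hWc this)
      exact le_sup_of_le_right (le_inf (zpowers_le.2 (K.A_le_cent K.fA))
        ((zpowers_le.2 (K.data.le K.fA)).trans K.S_le_normalizer))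
    have h3 : (n' : G) ∈ X ⊔ N₁ :=
      mem_sup_right (mem_inf.2 ⟨hLC n'.2, (hnQ n' (hn.symm ▸ hnb)).1⟩)
    have := mul_mem h2 h3
    rwa [hn', Subgroup.coe_mul, Subgroup.coe_inv, mul_inv_cancel_left] at this
  set D₀ := core (centralizer (E : Set G)) with hD₀
  have hD₀C : D₀ ≤ C := (core_le _).trans K.cent_eight_le
  have hD₀X : D₀ ≤ X := by
    refine le_trans le_sup_left (le_core (sup_le hD₀C (core_le C)) ?_
      (sup_core_odd hD₀C (core_odd _)))
    refine hCX.trans (sup_le (le_trans le_sup_right Subgroup.le_normalizer) ?_)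
    exact le_trans (le_inf (inf_le_right.trans K.normalizer_eight_core)
      (inf_le_left.trans (core_normalized C))) (normalizer_inf_normalizer_le_normalizer_sup _ _)
  refine hCX.trans (sup_le le_sup_left fun g hg => ?_)
  obtain ⟨o, ho, m, hm, rfl⟩ := K.frattini (mem_inf.1 hg).1 (mem_inf.1 hg).2
  exact mul_mem (mem_sup_left (hD₀X ho)) (mem_sup_right hm)

end Frame

end Cfsg.Agent.A8Type
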