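import Cfsg.Agent.Lib.A8Type.Setup

/-!
Orbits, fusion, and the two commuting involutions outside `A`.
-/

set_option autoImplicit false
set_option linter.style.haveILetI false
set_option linter.unusedSectionVars false

namespace Cfsg.Agent.A8Type

open Subgroup ClosedAbelian

universe u

variable {G : Type u} [Group G] [Finite G] {A : Subgroup G} {S : Sylow 2 G}
  {φ : ↥(normalizer (A : Set G)) →* A5}

/-- Three classes are not covered by two representatives. -/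
theorem Data.not_cover (D : Data A S φ) (p q : G) :
    ¬ ∀ z : G, orderOf z = 2 → IsConj p z ∨ IsConj q z := by
  intro h
  classical
  let g : {c : ConjClasses G // ∃ x ∈ c.carrier, orderOf x = 2} → Fin 2 := fun c =>
    if c.1 = ConjClasses.mk p then 0 else 1
  have hval : ∀ c : {c : ConjClasses G // ∃ x ∈ c.carrier, orderOf x = 2},
      c.1 = ConjClasses.mk p ∨ c.1 = ConjClasses.mk q := by
    rintro ⟨c, x, hx, hx2⟩
    rw [ConjClasses.mem_carrier_iff_mk_eq] at hx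
    rcases h x hx2 with h | h
    · exact Or.inl (hx.symm.trans (ConjClasses.mk_eq_mk_iff_isConj.2 h.symm))
    · exact Or.inr (hx.symm.trans (ConjClasses.mk_eq_mk_iff_isConj.2 h.symm))
  have hg : Function.Injective g := by
    intro c d hcd
    refine Subtype.ext ?_
    by_cases hc : c.1 = ConjClasses.mk p <;> by_cases hd : d.1 = ConjClasses.mk p
    · rw [hc, hd]
    · simp [g, hc, hd] at hcd
    · simp [g, hc, hd] at hcd
    · rw [(hval c).resolve_left hc, (hval d).resolve_left hd]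
  have := Nat.card_le_card_of_injective g hg
  rw [D.three, Nat.card_eq_fintype_card, Fintype.card_fin] at this
  omega

theorem Data.card_le_finset {ι : Type*} [Finite ι] (s : Finset A5) (g : ι → A5)
    (hg : Function.Injective g) (h : ∀ i, g i ∈ s) : Nat.card ι ≤ s.card := by
  have := Nat.card_le_card_of_injective (fun i => (⟨g i, h i⟩ : ↥s))
    fun i j e => hg (congrArg Subtype.val e)
  rwa [Nat.card_eq_finsetCard] at this

namespace Data

variable (D : Data A S φ) {u v : G} (hu : u ∈ (S : Subgroup G)) (hv : v ∈ (S : Subgroup G))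
  (hiu : Inv2 (img φ u)) (hiv : Inv2 (img φ v)) (hne : img φ u ≠ img φ v)
include D hu hv hiu hiv hne

theorem comm_uv : img φ u * img φ v = img φ v * img φ u :=
  (D.img_S hu hv hu hiu hiv hne).1

theorem fix_central {b : G} (hbu : b ∈ cA A u) (hbv : b ∈ cA A v) :
    ∀ s ∈ (S : Subgroup G), b * s = s * b := by
  intro s hs
  have hbA := (mem_cA.1 hbu).1
  rcases (D.img_S hu hv hs hiu hiv hne).2 with h | h | h | h
  · exact (mem_centralizer_iff.1 ((D.img_eq_one_iff (D.leN hs)).1 h) b hbA)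
  · exact (mem_cA.1 (D.cA_congr (D.leN hs) (D.leN hu) h ▸ hbu : b ∈ cA A s)).2
  · exact (mem_cA.1 (D.cA_congr (D.leN hs) (D.leN hv) h ▸ hbv : b ∈ cA A s)).2
  · refine (mem_cA.1 (D.cA_congr (D.leN hs) (D.leN (mul_mem hu hv)) h ▸ ?_ : b ∈ cA A s)).2
    refine mem_cA.2 ⟨hbA, ?_⟩
    rw [← mul_assoc, (mem_cA.1 hbu).2, mul_assoc, (mem_cA.1 hbv).2, ← mul_assoc]

theorem fix_unique {b c : G} (hbu : b ∈ cA A u) (hbv : b ∈ cA A v) (hcu : c ∈ cA A u)
    (hcv : c ∈ cA A v) (hb : b ≠ 1) (hc : c ≠ 1) : b = c := by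
  rcases D.center b (D.le (mem_cA.1 hbu).1) c (D.le (mem_cA.1 hcu).1)
    (D.fix_central hu hv hiu hiv hne hbu hbv) (D.fix_central hu hv hiu hiv hne hcu hcv) with h | h | h
  · exact absurd h hb
  · exact absurd h hc
  · exact h

theorem exists_fix : ∃ f, f ≠ 1 ∧ f ∈ cA A u ∧ f ∈ cA A v := by
  haveI : Fact (Nat.Prime 2) := ⟨Nat.prime_two⟩
  have hcomm := D.comm_uv hu hv hiu hiv hne
  have himg : img φ (v * u * v⁻¹) = img φ u := by
    rw [D.img_conj (D.leN hv) (D.leN hu), ← hcomm, mul_inv_cancel_right]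
  have hvu : v * u * v⁻¹ ∈ normalizer (A : Set G) :=
    mul_mem (mul_mem (D.leN hv) (D.leN hu)) (inv_mem (D.leN hv))
  have h := fixed_modEq (p := 2) v (cA A u : Set G)
    (fun x hx => by
      rw [SetLike.mem_coe, ← D.cA_congr hvu (D.leN hu) himg]
      exact (D.mem_cA_conj (D.leN hv)).2 hx)
    (fun x hx => (mem_centralizer_iff.1 ((D.img_eq_one_iff (pow_mem (D.leN hv) 2)).1
      (by rw [D.img_pow (D.leN hv), pow_two, hiv.1])) x (mem_cA.1 hx).1).symm)
  rw [show Nat.card ↥(cA A u : Set G) = 4 from (D.card_cA (D.leN hu) hiu).1] at h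
  let one : {x : G // x ∈ (cA A u : Set G) ∧ v * x = x * v} := ⟨1, one_mem _, by simp⟩
  have hgt : 1 < Nat.card {x : G // x ∈ (cA A u : Set G) ∧ v * x = x * v} := by
    haveI : Nonempty {x : G // x ∈ (cA A u : Set G) ∧ v * x = x * v} := ⟨one⟩
    have hpos := Nat.card_pos (α := {x : G // x ∈ (cA A u : Set G) ∧ v * x = x * v})
    unfold Nat.ModEq at h
    omega
  haveI := Finite.one_lt_card_iff_nontrivial.1 hgt
  obtain ⟨⟨f, hf, hfv⟩, hne1⟩ := exists_ne one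
  exact ⟨f, fun h1 => hne1 (Subtype.ext h1), hf, mem_cA.2 ⟨(mem_cA.1 hf).1, hfv.symm⟩⟩

/-- An involution of the automiser fixing the central element. -/
theorem img_fix {f x : G} (hf : f ≠ 1) (hfu : f ∈ cA A u) (hfv : f ∈ cA A v)
    (hx : x ∈ normalizer (A : Set G)) (hix : Inv2 (img φ x)) (hfx : f ∈ cA A x) :
    img φ x = img φ u ∨ img φ x = img φ v ∨ img φ x = img φ (u * v) := by
  by_contra! h
  obtain ⟨h1, h2, h3⟩ := h
  have hNu := D.leN hu
  have hNv := D.leN hv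
  have hfA := (mem_cA.1 hfu).1
  have key : ∀ p ∈ normalizer (A : Set G), img φ p * img φ p = 1 → f ∈ cA A p →
      (img φ p * img φ x) ^ 5 = 1 → img φ x = img φ p := by
    intro p hp hp2 hfp h5
    have h1 := D.five (mul_mem hp hx) (by rw [D.img_mul hp hx, h5]) (mem_cA.2 ⟨hfA, by
      rw [← mul_assoc, (mem_cA.1 hfp).2, mul_assoc, (mem_cA.1 hfx).2, ← mul_assoc]⟩) hf
    rw [D.img_mul hp hx] at h1
    rw [← inv_eq_of_mul_eq_one_right h1, inv_eq_of_mul_eq_one_right hp2]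
  rw [D.img_mul hNu hNv] at h3
  rcases inv2_five _ hiu _ hiv (D.comm_uv hu hv hiu hiv hne) hne _ hix h1 h2 h3 with h | h | h
  · exact h1 (key u hNu hiu.1 hfu h)
  · exact h2 (key v hNv hiv.1 hfv h)
  · refine h3 ?_
    rw [← D.img_mul hNu hNv] at h ⊢
    refine key _ (mul_mem hNu hNv) ?_ (mem_cA.2 ⟨hfA, ?_⟩) h
    · rw [D.img_mul hNu hNv]
      calc img φ u * img φ v * (img φ u * img φ v)
          = img φ u * img φ v * (img φ v * img φ u) := by rw [D.comm_uv hu hv hiu hiv hne]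
        _ = img φ u * (img φ v * img φ v) * img φ u := by group
        _ = 1 := by rw [hiv.1, mul_one, hiu.1]
    · rw [← mul_assoc, (mem_cA.1 hfu).2, mul_assoc, (mem_cA.1 hfv).2, ← mul_assoc]

/-- An element commuting with one of the three involutions. -/
theorem img_comm {p : A5} (hp : p = img φ u ∨ p = img φ v ∨ p = img φ (u * v)) {w : A5}
    (hw : w * p = p * w) :
    w = 1 ∨ w = img φ u ∨ w = img φ v ∨ w = img φ (u * v) := by
  rw [D.img_mul (D.leN hu) (D.leN hv)] at hp ⊢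
  have hc := D.comm_uv hu hv hiu hiv hne
  rcases hp with rfl | rfl | rfl
  · exact inv2_four _ hiu _ hiv hc hne w hw
  · rcases inv2_four _ hiv _ hiu hc.symm hne.symm w hw with h | h | h | h
    · exact Or.inl h
    · exact Or.inr (Or.inr (Or.inl h))
    · exact Or.inr (Or.inl h)
    · exact Or.inr (Or.inr (Or.inr (h.trans hc.symm)))
  · have h1 : img φ u * img φ v * img φ u = img φ v := by
      rw [hc, mul_assoc, hiu.1, mul_one]
    have h2 : Inv2 (img φ u * img φ v) := by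
      refine ⟨by rw [← mul_assoc, h1, hiv.1], fun h => hne ?_⟩
      rw [← inv_eq_of_mul_eq_one_right h, inv_eq_of_mul_eq_one_right hiu.1]
    have h3 : img φ u * (img φ u * img φ v) = img φ v := by rw [← mul_assoc, hiu.1, one_mul]
    rcases inv2_four _ h2 _ hiu (h1.trans h3.symm)
      (fun h => hiv.2 (by rw [← h3, h, hiu.1])) w hw with h | h | h | h
    · exact Or.inl h
    · exact Or.inr (Or.inr (Or.inr h))
    · exact Or.inr (Or.inl h)
    · exact Or.inr (Or.inr (Or.inl (h.trans h1)))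

/-- An involution outside `A` fixes only one conjugate of the central element. -/
theorem fix_orbit {f : G} (hf : f ≠ 1) (hfu : f ∈ cA A u) (hfv : f ∈ cA A v) {x c d : G}
    (hx : x ∈ normalizer (A : Set G)) (hix : Inv2 (img φ x)) (hc : c ∈ orb A f) (hd : d ∈ orb A f)
    (hcx : c ∈ cA A x) (hdx : d ∈ cA A x) : c = d := by
  obtain ⟨n, hn, rfl⟩ := hc
  obtain ⟨n', hn', rfl⟩ := hd
  set x' := n⁻¹ * x * n with hx'
  set m := n⁻¹ * n' with hm
  have hmN : m ∈ normalizer (A : Set G) := mul_mem (inv_mem hn) hn'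
  have hx'N : x' ∈ normalizer (A : Set G) := mul_mem (mul_mem (inv_mem hn) hx) hn
  have hx'e : n * x' * n⁻¹ = x := by rw [hx']; group
  have hf1 : f ∈ cA A x' := (D.mem_cA_conj hn).1 (by rw [hx'e]; exact hcx)
  have hf2 : m * f * m⁻¹ ∈ cA A x' := (D.mem_cA_conj hn).1 (by
    rw [hx'e, hm, show n * (n⁻¹ * n' * f * (n⁻¹ * n')⁻¹) * n⁻¹ = n' * f * n'⁻¹ by group]
    exact hdx)
  set x'' := m⁻¹ * x' * m with hx''
  have hx''N : x'' ∈ normalizer (A : Set G) := mul_mem (mul_mem (inv_mem hmN) hx'N) hmN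
  have hf3 : f ∈ cA A x'' := (D.mem_cA_conj hmN).1 (by
    rw [show m * x'' * m⁻¹ = x' by rw [hx'']; group]; exact hf2)
  have hinv : ∀ {g h : G}, g ∈ normalizer (A : Set G) → h ∈ normalizer (A : Set G) →
      Inv2 (img φ h) → Inv2 (img φ (g⁻¹ * h * g)) := by
    intro g h hg hh hi
    rw [D.img_mul (mul_mem (inv_mem hg) hh) hg, D.img_mul (inv_mem hg) hh, D.img_inv hg]
    refine ⟨?_, fun h1 => hi.2 ?_⟩
    · calc (img φ g)⁻¹ * img φ h * img φ g * ((img φ g)⁻¹ * img φ h * img φ g)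
          = (img φ g)⁻¹ * (img φ h * img φ h) * img φ g := by group
        _ = 1 := by rw [hi.1]; group
    · calc img φ h = img φ g * ((img φ g)⁻¹ * img φ h * img φ g) * (img φ g)⁻¹ := by group
        _ = 1 := by rw [h1]; group
  have hp' := D.img_fix hu hv hiu hiv hne hf hfu hfv hx'N (hinv hn hx hix) hf1
  have hp'' := D.img_fix hu hv hiu hiv hne hf hfu hfv hx''N (hinv hmN hx'N (hinv hn hx hix)) hf3
  have key : ∀ w ∈ (S : Subgroup G), img φ w * img φ x' = img φ x' * img φ w →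
      m * f * m⁻¹ ∈ cA A w := by
    intro w hw hwc
    have hwN := D.leN hw
    set w' := m⁻¹ * w * m with hw'
    have hw'N : w' ∈ normalizer (A : Set G) := mul_mem (mul_mem (inv_mem hmN) hwN) hmN
    have hcc : img φ w' * img φ x'' = img φ x'' * img φ w' := by
      rw [← D.img_mul hw'N hx''N, ← D.img_mul hx''N hw'N, hw', hx'',
        show m⁻¹ * w * m * (m⁻¹ * x' * m) = m⁻¹ * (w * x') * m⁻¹⁻¹ by group,
        show m⁻¹ * x' * m * (m⁻¹ * w * m) = m⁻¹ * (x' * w) * m⁻¹⁻¹ by group,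
        D.img_conj (inv_mem hmN) (mul_mem hwN hx'N), D.img_conj (inv_mem hmN) (mul_mem hx'N hwN),
        D.img_mul hwN hx'N, D.img_mul hx'N hwN, hwc]
    have hfw : f ∈ cA A w' := by
      rcases D.img_comm hu hv hiu hiv hne hp'' hcc with h | h | h | h
      · exact mem_cA.2 ⟨(mem_cA.1 hfu).1,
          mem_centralizer_iff.1 ((D.img_eq_one_iff hw'N).1 h) f (mem_cA.1 hfu).1⟩
      · rw [D.cA_congr hw'N (D.leN hu) h]; exact hfu
      · rw [D.cA_congr hw'N (D.leN hv) h]; exact hfv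
      · rw [D.cA_congr hw'N (D.leN (mul_mem hu hv)) h]
        exact mem_cA.2 ⟨(mem_cA.1 hfu).1,
          D.fix_central hu hv hiu hiv hne hfu hfv _ (mul_mem hu hv)⟩
    have := (D.mem_cA_conj hmN).2 hfw
    rwa [show m * w' * m⁻¹ = w by rw [hw']; group] at this
  have hS' : ∀ w ∈ (S : Subgroup G), img φ w * img φ x' = img φ x' * img φ w := fun w hw => by
    rcases hp' with h | h | h <;> rw [h]
    · rcases (D.img_S hu hv hw hiu hiv hne).2 with g | g | g | g <;> rw [g]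
      · rw [one_mul, mul_one]
      · exact (D.comm_uv hu hv hiu hiv hne).symm
      · rw [D.img_mul (D.leN hu) (D.leN hv), mul_assoc, ← D.comm_uv hu hv hiu hiv hne]
    · rcases (D.img_S hu hv hw hiu hiv hne).2 with g | g | g | g <;> rw [g]
      · rw [one_mul, mul_one]
      · exact D.comm_uv hu hv hiu hiv hne
      · rw [D.img_mul (D.leN hu) (D.leN hv), ← mul_assoc, ← D.comm_uv hu hv hiu hiv hne]
    · rcases (D.img_S hu hv hw hiu hiv hne).2 with g | g | g | g <;> rw [g]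
      · rw [one_mul, mul_one]
      · rw [D.img_mul (D.leN hu) (D.leN hv), mul_assoc, ← D.comm_uv hu hv hiu hiv hne]
      · rw [D.img_mul (D.leN hu) (D.leN hv), ← mul_assoc, ← D.comm_uv hu hv hiu hiv hne]
  have hfin : m * f * m⁻¹ = f := D.fix_unique hu hv hiu hiv hne (key u hu (hS' u hu))
    (key v hv (hS' v hv)) hfu hfv (fun h => hf (by
      calc f = m⁻¹ * (m * f * m⁻¹) * m := by group
        _ = 1 := by rw [h]; group)) hf
  rw [hm] at hfin
  calc n * f * n⁻¹ = n * (n⁻¹ * n' * f * (n⁻¹ * n')⁻¹) * n⁻¹ := by rw [hfin]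
    _ = _ := by group

/-- An elementary abelian subgroup of order sixteen of the Sylow subgroup is `A`. -/
theorem eq_A_S {E : Subgroup G} (hES : E ≤ (S : Subgroup G)) (hE : Cfsg.IsElementaryAbelian 2 E)
    (hE16 : Nat.card E = 16) : E = A := by
  haveI := hE.1
  by_cases hEA : E ≤ A
  · exact eq_of_le_of_card_ge hEA (by rw [hE16, D.card])
  exfalso
  obtain ⟨e, he, heA⟩ := SetLike.not_le_iff_exists.1 hEA
  let g : ↥E →* A5 := φ.comp (Subgroup.inclusion (hES.trans D.leN))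
  have hg : ∀ x : ↥E, g x = img φ (x : G) := fun x =>
    (img_of_mem (φ := φ) (D.leN (hES x.2))).symm
  have hker : g.ker = A.subgroupOf E := by
    ext x
    rw [MonoidHom.mem_ker, hg, mem_subgroupOf]
    exact ⟨D.mem_A_of_img (D.leN (hES x.2)) (TwoEl.of_group S.2 (hES x.2)), D.img_A⟩
  have hprod : Nat.card g.range * Nat.card (A.subgroupOf E) = 16 := by
    rw [← hker, ← Subgroup.index_ker g, Subgroup.index_mul_card, hE16]
  have hle : ∀ x ∈ E, x ∉ A → Nat.card (A.subgroupOf E) ≤ Nat.card ↥(cA A x) := fun x hx _ =>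
    Nat.card_le_card_of_injective (fun b : A.subgroupOf E => (⟨(b : E), mem_cA.2
      ⟨mem_subgroupOf.1 b.2, congrArg Subtype.val (mul_comm' (b : ↥E) ⟨x, hx⟩)⟩⟩ : ↥(cA A x)))
      fun b c h => Subtype.ext (Subtype.ext (congrArg Subtype.val h :))
  have hb4 := (hle e he heA).trans_eq (D.card_cA (D.leN (hES he))
    (D.inv2_img (D.leN (hES he)) (TwoEl.of_group S.2 (hES he)) heA)).1
  have hr4 : 4 ≤ Nat.card g.range := by nlinarith
  have hmem : ∀ p : A5, p = img φ u ∨ p = img φ v → p ∈ g.range := by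
    intro p hp
    by_contra hnp
    have hsub := Data.card_le_finset
      (ι := ↥g.range) (({1, img φ u, img φ v, img φ (u * v)} : Finset A5).erase p) Subtype.val
      Subtype.val_injective (fun i => by
        refine Finset.mem_erase.2 ⟨fun h => hnp (h ▸ i.2), ?_⟩
        obtain ⟨x, hx⟩ := i.2
        rw [← hx, hg]
        simpa using (D.img_S hu hv (hES x.2) hiu hiv hne).2)
    rw [Finset.card_erase_of_mem (by rcases hp with rfl | rfl <;> simp)] at hsub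
    have := Finset.card_le_four (a := (1 : A5)) (b := img φ u) (c := img φ v) (d := img φ (u * v))
    omega
  obtain ⟨e1, he1⟩ := hmem _ (Or.inl rfl)
  obtain ⟨e2, he2⟩ := hmem _ (Or.inr rfl)
  rw [hg] at he1 he2
  obtain ⟨f, hf, hfu, hfv⟩ := D.exists_fix hu hv hiu hiv hne
  have hsmall : Nat.card (A.subgroupOf E) ≤ 2 := by
    have hz : ∀ b : A.subgroupOf E, ((b : E) : G) ∈ zpowers f := fun b => by
      by_cases hb : ((b : E) : G) = 1
      · rw [hb]; exact one_mem _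
      have hbA : ((b : E) : G) ∈ A := mem_subgroupOf.1 b.2
      have h1 : ((b : E) : G) ∈ cA A u := D.cA_congr (D.leN (hES e1.2)) (D.leN hu) he1 ▸
        mem_cA.2 ⟨hbA, congrArg Subtype.val (mul_comm' (b : ↥E) e1)⟩
      have h2 : ((b : E) : G) ∈ cA A v := D.cA_congr (D.leN (hES e2.2)) (D.leN hv) he2 ▸
        mem_cA.2 ⟨hbA, congrArg Subtype.val (mul_comm' (b : ↥E) e2)⟩
      rw [D.fix_unique hu hv hiu hiv hne h1 h2 hfu hfv hb hf]
      exact mem_zpowers f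
    refine (Nat.card_le_card_of_injective
      (fun b : A.subgroupOf E => (⟨((b : E) : G), hz b⟩ : ↥(zpowers f))) fun b c h =>
      Subtype.ext (Subtype.ext (congrArg Subtype.val h :))).trans ?_
    rw [Nat.card_zpowers]
    exact orderOf_le_of_pow_eq_one two_pos (D.ea.2 f (mem_cA.1 hfu).1)
  have := Data.card_le_finset (ι := ↥g.range) ({1, img φ u, img φ v, img φ (u * v)} : Finset A5)
    Subtype.val Subtype.val_injective (fun i => by
      obtain ⟨x, hx⟩ := i.2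
      rw [← hx, hg]
      simpa using (D.img_S hu hv (hES x.2) hiu hiv hne).2)
  have := Finset.card_le_four (a := (1 : A5)) (b := img φ u) (c := img φ v) (d := img φ (u * v))
  nlinarith

end Data

namespace Data

variable (D : Data A S φ)
include D

theorem eq_A {P E : Subgroup G} (hP : IsPGroup 2 ↥P) (hAP : A ≤ P) (hEP : E ≤ P)
    (hE : Cfsg.IsElementaryAbelian 2 E) (hE16 : Nat.card E = 16) : E = A := by
  obtain ⟨u, hu, v, hv, hiu, hiv, hne⟩ := D.exists_two_images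
  obtain ⟨c, hc⟩ := LESylow.exists_conj_le hP S
  have key : ∀ X : Subgroup G, X ≤ P → Cfsg.IsElementaryAbelian 2 X → Nat.card X = 16 →
      X.map (MulAut.conj c).toMonoidHom = A := fun X hXP hX hX16 => by
    refine D.eq_A_S hu hv hiu hiv hne ((map_mono hXP).trans hc) ⟨?_, ?_⟩ ?_
    · haveI := hX.1
      exact Subgroup.map_isMulCommutative X _
    · rintro _ ⟨x, hx, rfl⟩
      rw [← map_pow, hX.2 x hx, map_one]
    · rw [LEBasic.card_map_conj]; exact hX16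
  exact Subgroup.map_injective (MulAut.conj c).injective
    ((key E hEP hE hE16).trans (key A hAP D.ea D.card).symm)

theorem ea_map (g : G) : Cfsg.IsElementaryAbelian 2 (A.map (MulAut.conj g).toMonoidHom) := by
  haveI := D.ea.1
  refine ⟨Subgroup.map_isMulCommutative A _, ?_⟩
  rintro _ ⟨x, hx, rfl⟩
  rw [← map_pow, D.ea.2 x hx, map_one]

/-- A conjugate of `A` in a 2-group containing `A` is `A`. -/
theorem mem_normalizer_of_le {P : Subgroup G} (hP : IsPGroup 2 ↥P) (hAP : A ≤ P) {g : G}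
    (hg : ∀ b ∈ A, g * b * g⁻¹ ∈ P) : g ∈ normalizer (A : Set G) := by
  rw [← LEBasic.map_conj_eq_iff_mem_normalizer]
  refine D.eq_A hP hAP ?_ (D.ea_map g) (by rw [LEBasic.card_map_conj]; exact D.card)
  rintro _ ⟨b, hb, rfl⟩
  exact hg b hb

/-- Fusion in `A` inside a subgroup containing `A` is induced by the normalizer. -/
theorem control {M : Subgroup G} (hAM : A ≤ M) {x g : G} (hg : g ∈ M) (hx : x ∈ A)
    (hgx : g * x * g⁻¹ ∈ A) :
    ∃ n ∈ normalizer (A : Set G), n ∈ M ∧ n * x * n⁻¹ = g * x * g⁻¹ := by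
  set z := g * x * g⁻¹ with hz
  set H := M ⊓ centralizer ({z} : Set G) with hH
  have hAH : A ≤ H := le_inf hAM fun b hb => mem_centralizer_singleton_iff.2 (D.comm hb hgx)
  have hgAH : A.map (MulAut.conj g).toMonoidHom ≤ H := by
    rintro _ ⟨b, hb, rfl⟩
    refine mem_inf.2 ⟨mul_mem (mul_mem hg (hAM hb)) (inv_mem hg), mem_centralizer_singleton_iff.2 ?_⟩
    show g * b * g⁻¹ * (g * x * g⁻¹) = g * x * g⁻¹ * (g * b * g⁻¹)
    calc _ = g * (b * x) * g⁻¹ := by group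
      _ = g * (x * b) * g⁻¹ := by rw [D.comm hb hx]
      _ = _ := by group
  obtain ⟨c, hc, T, hT, hAT, -, hcT⟩ := exists_conj_over D.isP hAH (D.isP.map _) hgAH
  refine ⟨c * g, D.mem_normalizer_of_le hT hAT fun b hb => ?_, mul_mem (mem_inf.1 hc).1 hg, ?_⟩
  · have := hcT _ ⟨b, hb, rfl⟩
    change c * (g * b * g⁻¹) * c⁻¹ ∈ T at this
    simpa [mul_assoc] using this
  · calc c * g * x * (c * g)⁻¹ = c * z * c⁻¹ := by rw [hz]; group
      _ = z := by rw [mem_centralizer_singleton_iff.1 (mem_inf.1 hc).2, mul_inv_cancel_right]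

theorem orb_mem {x z : G} (hx : x ∈ A) (hx1 : x ≠ 1) (h : z ∈ orb A x) : z ∈ A ∧ z ≠ 1 := by
  obtain ⟨n, hn, rfl⟩ := h
  exact ⟨(mem_normalizer_iff.1 hn x).1 hx, fun e => hx1 (by simpa using e)⟩

theorem five_dvd_orb {x : G} (hx : x ∈ A) (hx1 : x ≠ 1) : 5 ∣ Nat.card ↥(orb A x) := by
  haveI : Fact (Nat.Prime 5) := ⟨by norm_num⟩
  obtain ⟨u, hu, v, hv, hiu, -, -⟩ := D.exists_two_images
  obtain ⟨h, h5, h1⟩ := inv2_conj_five _ hiu
  obtain ⟨r, hr, hre⟩ := D.exists_img (img φ u * (h * img φ u * h⁻¹))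
  have hmod := fixed_modEq (p := 5) r (orb A x)
    (fun z hz => by
      obtain ⟨n, hn, rfl⟩ := hz
      exact ⟨r * n, mul_mem hr hn, by group⟩)
    (fun z hz => (mem_centralizer_iff.1 ((D.img_eq_one_iff (pow_mem hr 5)).1
      (by rw [D.img_pow hr, hre, h5])) z (D.orb_mem hx hx1 hz).1).symm)
  haveI : IsEmpty {z : G // z ∈ orb A x ∧ r * z = z * r} := ⟨fun z => h1 (hre ▸
    D.five hr (by rw [hre, h5]) (mem_cA.2 ⟨(D.orb_mem hx hx1 z.2.1).1, z.2.2.symm⟩)
      (D.orb_mem hx hx1 z.2.1).2)⟩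
  rw [Nat.card_of_isEmpty] at hmod
  exact Nat.dvd_of_mod_eq_zero hmod.symm

theorem orb_parity {u v f : G} (hu : u ∈ (S : Subgroup G)) (hv : v ∈ (S : Subgroup G))
    (hiu : Inv2 (img φ u)) (hiv : Inv2 (img φ v)) (hne : img φ u ≠ img φ v) (hf : f ≠ 1)
    (hfu : f ∈ cA A u) (hfv : f ∈ cA A v) {x : G} (hx : x ∈ A) (hx1 : x ≠ 1) :
    (f ∈ orb A x ↔ Odd (Nat.card ↥(orb A x))) := by
  haveI : Fact (Nat.Prime 2) := ⟨Nat.prime_two⟩
  have hc := D.comm_uv hu hv hiu hiv hne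
  have horb : ∀ r ∈ normalizer (A : Set G), ∀ z ∈ orb A x, r * z * r⁻¹ ∈ orb A x := by
    rintro r hr _ ⟨n, hn, rfl⟩
    exact ⟨r * n, mul_mem hr hn, by group⟩
  have hsq : ∀ r ∈ normalizer (A : Set G), img φ r * img φ r = 1 → ∀ z ∈ orb A x,
      r ^ 2 * z = z * r ^ 2 := fun r hr h2 z hz =>
    (mem_centralizer_iff.1 ((D.img_eq_one_iff (pow_mem hr 2)).1
      (by rw [D.img_pow hr, pow_two, h2])) z (D.orb_mem hx hx1 hz).1).symm
  set s₁ : Set G := {z | z ∈ orb A x ∧ u * z = z * u} with hs₁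
  have hvu : v * u * v⁻¹ ∈ normalizer (A : Set G) :=
    mul_mem (mul_mem (D.leN hv) (D.leN hu)) (inv_mem (D.leN hv))
  have e1 := fixed_modEq (p := 2) u (orb A x) (horb u (D.leN hu)) (hsq u (D.leN hu) hiu.1)
  have e2 := fixed_modEq (p := 2) v s₁ (fun z hz => by
      refine ⟨horb v (D.leN hv) z hz.1, ?_⟩
      have h := (D.mem_cA_conj (x := u) (b := z) (D.leN hv)).2
        (mem_cA.2 ⟨(D.orb_mem hx hx1 hz.1).1, hz.2.symm⟩)
      rw [D.cA_congr hvu (D.leN hu)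
        (by rw [D.img_conj (D.leN hv) (D.leN hu), ← hc, mul_inv_cancel_right])] at h
      exact (mem_cA.1 h).2.symm)
    (fun z hz => hsq v (D.leN hv) hiv.1 z hz.1)
  have huniq : ∀ z : {z : G // z ∈ s₁ ∧ v * z = z * v}, (z : G) = f := fun z =>
    D.fix_unique hu hv hiu hiv hne
      (mem_cA.2 ⟨(D.orb_mem hx hx1 z.2.1.1).1, z.2.1.2.symm⟩)
      (mem_cA.2 ⟨(D.orb_mem hx hx1 z.2.1.1).1, z.2.2.symm⟩) hfu hfv
      (D.orb_mem hx hx1 z.2.1.1).2 hf
  have e3 : Nat.card {z : G // z ∈ s₁ ∧ v * z = z * v} ≡ Nat.card ↥(orb A x) [MOD 2] :=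
    e2.trans e1
  by_cases hfx : f ∈ orb A x
  · refine iff_of_true hfx ?_
    haveI : Subsingleton {z : G // z ∈ s₁ ∧ v * z = z * v} :=
      ⟨fun a b => Subtype.ext ((huniq a).trans (huniq b).symm)⟩
    haveI : Nonempty {z : G // z ∈ s₁ ∧ v * z = z * v} :=
      ⟨⟨f, ⟨hfx, (mem_cA.1 hfu).2.symm⟩, (mem_cA.1 hfv).2.symm⟩⟩
    rw [Nat.card_of_subsingleton (Classical.arbitrary _)] at e3
    rw [Nat.odd_iff]
    unfold Nat.ModEq at e3
    omega
  · refine iff_of_false hfx ?_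
    haveI : IsEmpty {z : G // z ∈ s₁ ∧ v * z = z * v} := ⟨fun z => hfx (huniq z ▸ z.2.1.1)⟩
    rw [Nat.card_of_isEmpty] at e3
    rw [Nat.odd_iff]
    unfold Nat.ModEq at e3
    omega

/-- Involutions reach the Sylow subgroup. -/
theorem exists_conj_S {z : G} (hz : z * z = 1) : ∃ g : G, g * z * g⁻¹ ∈ (S : Subgroup G) := by
  obtain ⟨g, hg⟩ := LESylow.exists_conj_le (twoEl_of_sq hz).isPGroup S
  exact ⟨g, hg ⟨z, mem_zpowers z, rfl⟩⟩

theorem exists_conj_S_N {z : G} (hzN : z ∈ normalizer (A : Set G)) (hz : TwoEl z) :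
    ∃ n ∈ normalizer (A : Set G), n * z * n⁻¹ ∈ (S : Subgroup G) := by
  obtain ⟨n, hn, hle⟩ := LESylow.exists_conj_le_of_le (zpowers_le.2 hzN) hz.isPGroup
    (S.subtype D.leN)
  obtain ⟨w, hw, hwe⟩ := hle ⟨z, mem_zpowers z, rfl⟩
  exact ⟨n, hn, by rw [show n * z * n⁻¹ = (w : G) from hwe.symm]; exact hw⟩

theorem orderOf_two {z : G} (h : z ∈ A) (h1 : z ≠ 1) : orderOf z = 2 :=
  orderOf_eq_prime (D.ea.2 z h) h1

end Data

/-- The setting with chosen commuting involutions and class representatives. -/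
structure Frame (A : Subgroup G) (S : Sylow 2 G) (φ : ↥(normalizer (A : Set G)) →* A5) (t y f a : G) :
    Prop where
  data : Data A S φ
  tS : t ∈ (S : Subgroup G)
  yS : y ∈ (S : Subgroup G)
  t2 : t * t = 1
  y2 : y * y = 1
  ty : t * y = y * t
  it : Inv2 (img φ t)
  iy : Inv2 (img φ y)
  ne : img φ t ≠ img φ y
  f1 : f ≠ 1
  ft : f ∈ cA A t
  fy : f ∈ cA A y
  at' : a ∈ cA A t
  a1 : a ≠ 1
  af : a ∉ orb A f
  orbf : Nat.card ↥(orb A f) = 5
  cover : ∀ x ∈ A, x ≠ 1 → x ∈ orb A f ∨ x ∈ orb A a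
  closed : ∀ x ∈ A, ∀ g : G, g * x * g⁻¹ ∈ normalizer (A : Set G) → g * x * g⁻¹ ∈ A

theorem Data.exists_frame (D : Data A S φ) : ∃ t y f a : G, Frame A S φ t y f a := by
  obtain ⟨u, hu, v, hv, hiu, hiv, hne⟩ := D.exists_two_images
  obtain ⟨f, hf, hfu, hfv⟩ := D.exists_fix hu hv hiu hiv hne
  have hfA := (mem_cA.1 hfu).1
  have hpar := fun x (hx : x ∈ A) (hx1 : x ≠ 1) =>
    D.orb_parity hu hv hiu hiv hne hf hfu hfv hx hx1
  -- the orbits inside the set of involutions of `A`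
  set B : Set G := {x | x ∈ A ∧ x ≠ 1} with hB
  have hB15 : B.ncard = 15 := by
    have h1 : B = (A : Set G) \ {1} := by ext x; simp [hB]
    rw [h1, Set.ncard_sdiff_singleton_of_mem (one_mem A), ← Nat.card_coe_set_eq,
      show Nat.card ↥(A : Set G) = 16 from D.card]
  have hsub : ∀ x ∈ A, x ≠ 1 → orb A x ⊆ B := fun x hx hx1 z hz => D.orb_mem hx hx1 hz
  have hnot : ¬ ∀ x ∈ A, x ≠ 1 → x ∈ orb A f := by
    intro hall
    by_cases hex : ∃ z, z ∈ (S : Subgroup G) ∧ z ∉ A ∧ z * z = 1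
    · obtain ⟨z₀, hz₀, hz₀A, hz₀2⟩ := hex
      refine D.not_cover f z₀ fun z hz => ?_
      obtain ⟨hz2, hz1⟩ := orderOf_eq_prime_iff.1 hz
      rw [pow_two] at hz2
      obtain ⟨g, hg⟩ := D.exists_conj_S hz2
      have hg2 : g * z * g⁻¹ * (g * z * g⁻¹) = 1 := by
        rw [show g * z * g⁻¹ * (g * z * g⁻¹) = g * (z * z) * g⁻¹ by group, hz2]; group
      by_cases hgA : g * z * g⁻¹ ∈ A
      · obtain ⟨n, -, hn⟩ := hall _ hgA fun h => hz1 (by simpa using h)
        exact Or.inl (isConj_iff.2 ⟨g⁻¹ * n, by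
          calc g⁻¹ * n * f * (g⁻¹ * n)⁻¹ = g⁻¹ * (n * f * n⁻¹) * g := by group
            _ = _ := by rw [hn]; group⟩)
      · obtain ⟨n, -, hn⟩ := D.outside_conj (D.leN hg) (D.leN hz₀) hg2 hz₀2 hgA hz₀A
        exact Or.inr (isConj_iff.2 ⟨g⁻¹ * n, by
          calc g⁻¹ * n * z₀ * (g⁻¹ * n)⁻¹ = g⁻¹ * (n * z₀ * n⁻¹) * g := by group
            _ = _ := by rw [hn]; group⟩)
    · refine D.not_cover f f fun z hz => ?_
      obtain ⟨hz2, hz1⟩ := orderOf_eq_prime_iff.1 hz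
      rw [pow_two] at hz2
      obtain ⟨g, hg⟩ := D.exists_conj_S hz2
      have hgA : g * z * g⁻¹ ∈ A := by
        by_contra hgA
        refine hex ⟨_, hg, hgA, ?_⟩
        rw [show g * z * g⁻¹ * (g * z * g⁻¹) = g * (z * z) * g⁻¹ by group, hz2]; group
      obtain ⟨n, -, hn⟩ := hall _ hgA fun h => hz1 (by simpa using h)
      exact Or.inl (isConj_iff.2 ⟨g⁻¹ * n, by
        calc g⁻¹ * n * f * (g⁻¹ * n)⁻¹ = g⁻¹ * (n * f * n⁻¹) * g := by group
          _ = _ := by rw [hn]; group⟩)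
  obtain ⟨a₀, ha₀, ha₀1, ha₀f⟩ : ∃ x, x ∈ A ∧ x ≠ 1 ∧ x ∉ orb A f := by
    by_contra! h
    exact hnot h
  have horbf : Nat.card ↥(orb A f) = 5 := by
    have hodd := (hpar f hfA hf).1 (orb_self A f)
    obtain ⟨k, hk⟩ := D.five_dvd_orb hfA hf
    have hlt : Nat.card ↥(orb A f) < 15 := by
      rw [Nat.card_coe_set_eq, ← hB15]
      exact Set.ncard_lt_ncard ⟨hsub f hfA hf, fun h => ha₀f (h ⟨ha₀, ha₀1⟩)⟩
    rw [hk] at hodd hlt ⊢
    rw [Nat.odd_iff] at hodd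
    omega
  have hrest : ∀ x ∈ A, x ≠ 1 → x ∈ orb A f ∨ x ∈ orb A a₀ := by
    have h10 : ∀ x ∈ A, x ≠ 1 → x ∉ orb A f → (B \ orb A f) = orb A x := by
      intro x hx hx1 hxf
      have hnf : f ∉ orb A x := fun h => hxf (orb_eq h ▸ orb_self A x)
      have hle : orb A x ⊆ B \ orb A f := fun z hz => ⟨hsub x hx hx1 hz, fun hz' => hxf (by
        rw [← orb_eq hz', orb_eq hz]; exact orb_self A x)⟩
      refine (Set.eq_of_subset_of_ncard_le hle ?_).symm
      rw [Set.ncard_sdiff (hsub f hfA hf), hB15, ← Nat.card_coe_set_eq, horbf]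
      have hev : ¬ Odd (Nat.card ↥(orb A x)) := fun h => hnf ((hpar x hx hx1).2 h)
      obtain ⟨k, hk⟩ := D.five_dvd_orb hx hx1
      have hpos : 0 < Nat.card ↥(orb A x) :=
        haveI : Nonempty ↥(orb A x) := ⟨⟨x, orb_self A x⟩⟩
        Nat.card_pos
      rw [Nat.card_coe_set_eq] at hk hev hpos
      rw [hk, Nat.odd_iff] at hev
      omega
    intro x hx hx1
    by_cases hxf : x ∈ orb A f
    · exact Or.inl hxf
    · right
      rw [← h10 a₀ ha₀ ha₀1 ha₀f]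
      exact ⟨⟨hx, hx1⟩, hxf⟩
  -- an involution outside `A`
  obtain ⟨z₀, hz₀, hz₀A, hz₀2⟩ : ∃ z, z ∈ (S : Subgroup G) ∧ z ∉ A ∧ z * z = 1 := by
    by_contra hex
    refine D.not_cover f a₀ fun z hz => ?_
    obtain ⟨hz2, hz1⟩ := orderOf_eq_prime_iff.1 hz
    rw [pow_two] at hz2
    obtain ⟨g, hg⟩ := D.exists_conj_S hz2
    have hgA : g * z * g⁻¹ ∈ A := by
      by_contra hgA
      refine hex ⟨_, hg, hgA, ?_⟩
      rw [show g * z * g⁻¹ * (g * z * g⁻¹) = g * (z * z) * g⁻¹ by group, hz2]; group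
    rcases hrest _ hgA (fun h => hz1 (by simpa using h)) with ⟨n, -, hn⟩ | ⟨n, -, hn⟩
    · exact Or.inl (isConj_iff.2 ⟨g⁻¹ * n, by
        calc g⁻¹ * n * f * (g⁻¹ * n)⁻¹ = g⁻¹ * (n * f * n⁻¹) * g := by group
          _ = _ := by rw [hn]; group⟩)
    · exact Or.inr (isConj_iff.2 ⟨g⁻¹ * n, by
        calc g⁻¹ * n * a₀ * (g⁻¹ * n)⁻¹ = g⁻¹ * (n * a₀ * n⁻¹) * g := by group
          _ = _ := by rw [hn]; group⟩)
  -- strong closure
  have hclosed : ∀ x ∈ A, ∀ g : G, g * x * g⁻¹ ∈ normalizer (A : Set G) → g * x * g⁻¹ ∈ A := by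
    intro x hx g hg
    by_contra hgA
    have hx1 : x ≠ 1 := fun h => hgA (by rw [h, mul_one, mul_inv_cancel]; exact one_mem A)
    have hg2 : g * x * g⁻¹ * (g * x * g⁻¹) = 1 := by
      rw [show g * x * g⁻¹ * (g * x * g⁻¹) = g * (x * x) * g⁻¹ by group, D.sq hx]; group
    refine D.not_cover f a₀ fun z hz => ?_
    obtain ⟨hz2, hz1⟩ := orderOf_eq_prime_iff.1 hz
    rw [pow_two] at hz2
    obtain ⟨k, hk⟩ := D.exists_conj_S hz2
    obtain ⟨w, hwA, hw1, hzw⟩ : ∃ w ∈ A, w ≠ 1 ∧ IsConj w z := by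
      by_cases hkA : k * z * k⁻¹ ∈ A
      · exact ⟨_, hkA, fun h => hz1 (by simpa using h), isConj_iff.2 ⟨k⁻¹, by group⟩⟩
      · obtain ⟨n, -, hn⟩ := D.outside_conj (D.leN hk) hg (by
          rw [show k * z * k⁻¹ * (k * z * k⁻¹) = k * (z * z) * k⁻¹ by group, hz2]; group) hg2 hkA hgA
        exact ⟨x, hx, hx1, isConj_iff.2 ⟨k⁻¹ * n * g, by
          calc k⁻¹ * n * g * x * (k⁻¹ * n * g)⁻¹ = k⁻¹ * (n * (g * x * g⁻¹) * n⁻¹) * k := by group
            _ = _ := by rw [hn]; group⟩⟩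
    rcases hrest w hwA hw1 with ⟨n, -, hn⟩ | ⟨n, -, hn⟩
    · exact Or.inl ((isConj_iff.2 ⟨n, hn⟩).trans hzw)
    · exact Or.inr ((isConj_iff.2 ⟨n, hn⟩).trans hzw)
  -- commuting involutions
  obtain ⟨t, ht, htA, ht2⟩ : ∃ t, t ∈ (S : Subgroup G) ∧ t ∉ A ∧ t * t = 1 := ⟨z₀, hz₀, hz₀A, hz₀2⟩
  have hit : Inv2 (img φ t) := D.inv2_img (D.leN ht) (twoEl_of_sq ht2) htA
  obtain ⟨w, hw, hiw, hwt⟩ : ∃ w ∈ (S : Subgroup G), Inv2 (img φ w) ∧ img φ t ≠ img φ w := by
    by_cases h : img φ t = img φ u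
    · exact ⟨v, hv, hiv, h ▸ hne⟩
    · exact ⟨u, hu, hiu, h⟩
  have hcw := D.comm_uv ht hw hit hiw hwt
  set z := w * t * w⁻¹ with hz
  have hzS : z ∈ (S : Subgroup G) := mul_mem (mul_mem hw ht) (inv_mem hw)
  have hz2 : z * z = 1 := by
    rw [hz, show w * t * w⁻¹ * (w * t * w⁻¹) = w * (t * t) * w⁻¹ by group, ht2]; group
  have hcA : z * t ∈ A := D.mem_A_of_img (D.leN (mul_mem hzS ht))
    (TwoEl.of_group S.2 (mul_mem hzS ht)) (by
      rw [D.img_mul (D.leN hzS) (D.leN ht), hz, D.img_conj (D.leN hw) (D.leN ht), ← hcw,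
        mul_inv_cancel_right, hit.1])
  have hzt : z * t = t * z := by
    have h := D.inv hcA
    rw [mul_inv_rev, inv_eq_of_mul_eq_one_right ht2, inv_eq_of_mul_eq_one_right hz2] at h
    exact h.symm
  obtain ⟨b, hb, hbc⟩ := (D.card_cA (D.leN ht) hit).2 (z * t) (mem_cA.2 ⟨hcA, by
    calc z * t * t = z * (t * t) := mul_assoc _ _ _
      _ = t * t * z := by rw [ht2, mul_one, one_mul]
      _ = t * (z * t) := by rw [mul_assoc, ← hzt]⟩)
  have hbt : b * t * b⁻¹ = z := by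
    rw [D.inv hb]
    calc b * t * b = b * (t * b * t⁻¹) * t := by group
      _ = z * (t * t) := by rw [hbc, mul_assoc]
      _ = z := by rw [ht2, mul_one]
  set y₀ := b⁻¹ * w with hy₀
  have hy₀S : y₀ ∈ (S : Subgroup G) := mul_mem (inv_mem (D.le hb)) hw
  have hy₀N := D.leN hy₀S
  have hy₀i : img φ y₀ = img φ w := by
    rw [hy₀, D.img_mul (inv_mem (D.memN hb)) (D.leN hw), D.img_inv (D.memN hb), D.img_A hb, inv_one,
      one_mul]
  have hy₀t : y₀ * t = t * y₀ := by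
    calc y₀ * t = b⁻¹ * (w * t * w⁻¹) * w := by rw [hy₀]; group
      _ = b⁻¹ * (b * t * b⁻¹) * w := by rw [hbt]
      _ = t * y₀ := by rw [hy₀]; group
  have hiy₀ : Inv2 (img φ y₀) := hy₀i ▸ hiw
  have hne₀ : img φ t ≠ img φ y₀ := hy₀i ▸ hwt
  obtain ⟨f', hf', hf't, hf'y⟩ := D.exists_fix ht hy₀S hit hiy₀ hne₀
  have hff' : f' = f := D.fix_unique hu hv hiu hiv hne
    (mem_cA.2 ⟨(mem_cA.1 hf't).1, D.fix_central ht hy₀S hit hiy₀ hne₀ hf't hf'y u hu⟩)
    (mem_cA.2 ⟨(mem_cA.1 hf't).1, D.fix_central ht hy₀S hit hiy₀ hne₀ hf't hf'y v hv⟩) hfu hfv hf' hf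
  subst hff'
  obtain ⟨c, hc, hcy⟩ : ∃ c ∈ cA A t, c ∉ cA A y₀ := by
    by_contra! h
    have hle : cA A t ≤ zpowers f' := fun c hc => by
      by_cases hc1 : c = 1
      · rw [hc1]; exact one_mem _
      · rw [D.fix_unique ht hy₀S hit hiy₀ hne₀ hc (h c hc) hf't hf'y hc1 hf']
        exact mem_zpowers _
    have := Subgroup.card_le_of_le hle
    rw [(D.card_cA (D.leN ht) hit).1, Nat.card_zpowers] at this
    have := orderOf_le_of_pow_eq_one two_pos (D.ea.2 f' hfA)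
    omega
  have hc1 : c ≠ 1 := fun h => hcy (h ▸ one_mem _)
  have hcA' := (mem_cA.1 hc).1
  have hcf : c ∉ orb A f' := fun h => hcy ((D.fix_orbit ht hy₀S hit hiy₀ hne₀ hf' hf't hf'y
    (D.leN ht) hit h (orb_self A f') hc hf't).symm ▸ hf'y)
  obtain ⟨y, hyS, hy2, hty, hiy, hney, hfy⟩ : ∃ y ∈ (S : Subgroup G), y * y = 1 ∧ t * y = y * t ∧
      Inv2 (img φ y) ∧ img φ t ≠ img φ y ∧ f' ∈ cA A y := by
    have hsqA : y₀ * y₀ ∈ A := D.mem_A_of_img (mul_mem hy₀N hy₀N)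
      (TwoEl.of_group S.2 (mul_mem hy₀S hy₀S)) (by rw [D.img_mul hy₀N hy₀N, hiy₀.1])
    by_cases h1 : y₀ * y₀ = 1
    · exact ⟨y₀, hy₀S, h1, hy₀t.symm, hiy₀, hne₀, hf'y⟩
    have hsq : y₀ * y₀ = f' := D.fix_unique ht hy₀S hit hiy₀ hne₀
      (mem_cA.2 ⟨hsqA, by rw [mul_assoc, hy₀t, ← mul_assoc, hy₀t, mul_assoc]⟩)
      (mem_cA.2 ⟨hsqA, mul_assoc _ _ _⟩) hf't hf'y h1 hf'
    have hd₁ : y₀ * c * y₀⁻¹ ∈ A := (mem_normalizer_iff.1 hy₀N c).1 hcA'
    set d := y₀ * c * y₀⁻¹ * c with hd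
    have hdA : d ∈ A := mul_mem hd₁ hcA'
    have hdt : d ∈ cA A t := mul_mem (by
      have := (D.mem_cA_conj (x := t) (b := c) hy₀N).2 hc
      rwa [show y₀ * t * y₀⁻¹ = t by rw [hy₀t, mul_inv_cancel_right]] at this) hc
    have hdy : d ∈ cA A y₀ := mem_cA.2 ⟨hdA, by
      have hcc : (y₀ * y₀) * c = c * (y₀ * y₀) := D.comm hsqA hcA'
      calc d * y₀ = (c * (y₀ * c * y₀⁻¹)) * y₀ := by rw [hd, D.comm hd₁ hcA']
        _ = c * (y₀ * y₀) * (y₀⁻¹ * c) := by group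
        _ = (y₀ * y₀) * c * (y₀⁻¹ * c) := by rw [hcc]
        _ = y₀ * d := by rw [hd]; group⟩
    have hd1 : d ≠ 1 := fun h => hcy (mem_cA.2 ⟨hcA', by
      rw [hd, mul_eq_one_iff_eq_inv, D.inv hcA'] at h
      rw [← mul_inv_eq_iff_eq_mul.1 h]⟩)
    have hdf := D.fix_unique ht hy₀S hit hiy₀ hne₀ hdt hdy hf't hf'y hd1 hf'
    have hyc : img φ (y₀ * c) = img φ y₀ := by
      rw [D.img_mul hy₀N (D.memN hcA'), D.img_A hcA', mul_one]
    refine ⟨y₀ * c, mul_mem hy₀S (D.le hcA'), ?_, ?_, hyc ▸ hiy₀, hyc ▸ hne₀,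
      D.cA_congr (mul_mem hy₀N (D.memN hcA')) hy₀N hyc ▸ hf'y⟩
    · calc y₀ * c * (y₀ * c) = (y₀ * c * y₀⁻¹) * (y₀ * y₀) * c := by group
        _ = (y₀ * c * y₀⁻¹) * c * (y₀ * y₀) := by
          rw [mul_assoc, D.comm hsqA hcA', ← mul_assoc]
        _ = 1 := by rw [← hd, hdf, hsq, D.sq hfA]
    · rw [← mul_assoc, ← hy₀t, mul_assoc, ← (mem_cA.1 hc).2, ← mul_assoc]
  refine ⟨t, y, f', c, D, ht, hyS, ht2, hy2, hty, hit, hiy, hney, hf', hf't, hfy, hc, hc1, hcf,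
    horbf, fun x hx hx1 => ?_, hclosed⟩
  rcases hrest x hx hx1 with h | h
  · exact Or.inl h
  · right
    rcases hrest c hcA' hc1 with h' | h'
    · exact absurd h' hcf
    · rwa [orb_eq h']

end Cfsg.Agent.A8Type
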