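import Cfsg.Agent.Lib.ClosedAbelian.Functor
import Cfsg.Agent.Lib.Transfer.Abelian
import Cfsg.Agent.Lib.FormWreath.Residue

/-!
General lemmas: focal subgroups, closures of odd cores, subgroups containing involution centralizers,
and elementary abelian Sylow 2-subgroups with a fixed-point-free automiser.
-/

set_option autoImplicit false
set_option linter.style.haveILetI false
set_option linter.unusedSectionVars false

namespace Cfsg.Agent.A8Type

open Subgroup ClosedAbelian

universe u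

variable {G : Type u} [Group G] [Finite G]

/-- A normal subgroup meeting a Sylow subgroup in a subgroup containing the focal subgroup. -/
theorem exists_normal_of_focal {p : ℕ} [Fact p.Prime] (P : Sylow p G) (Q : Subgroup G)
    (hQ : Q ≤ (P : Subgroup G))
    (h : ∀ x ∈ (P : Subgroup G), ∀ g : G, g * x * g⁻¹ ∈ (P : Subgroup G) →
      x⁻¹ * (g * x * g⁻¹) ∈ Q) :
    ∃ M : Subgroup G, M.Normal ∧ (P : Subgroup G) ⊓ M = Q ∧ (P : Subgroup G) ⊔ M = ⊤ := by
  set K := (Subgroup.transferFocal (P : Subgroup G)).ker with hK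
  have hres : Cfsg.pResidual p G ≤ K :=
    PBasic.pResidual_le (IsPGroup.of_equiv (P.isPGroup'.to_quotient _)
      (Subgroup.transferFocal.quotientKerMulEquivQuotientFocalSubroupOf P).symm)
  have hKP : K ⊓ (P : Subgroup G) ≤ Q := by
    rw [hK, Subgroup.ker_transferFocal_inf_eq_focalSubgroup, Subgroup.focalSubgroup_def,
      Subgroup.closure_le]
    rintro _ ⟨hz, x, hx, u, rfl⟩
    have h2 : u * x⁻¹ * u⁻¹ ∈ (P : Subgroup G) := by
      have := mul_mem (inv_mem hx) hz
      simpa [commutatorElement_def, mul_assoc] using this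
    have h3 := h x⁻¹ (inv_mem hx) u h2
    simpa [commutatorElement_def, mul_assoc] using h3
  have hPQ : (P : Subgroup G) ≤ normalizer (Q : Set G) := by
    intro s hs
    refine mem_normalizer_iff.2 fun q => ?_
    have key : ∀ s ∈ (P : Subgroup G), ∀ q ∈ Q, s * q * s⁻¹ ∈ Q := fun s hs q hq => by
      have := mul_mem hq (h q (hQ hq) s (mul_mem (mul_mem hs (hQ hq)) (inv_mem hs)))
      rwa [mul_inv_cancel_left] at this
    refine ⟨key s hs q, fun hq => ?_⟩
    simpa [mul_assoc] using key s⁻¹ (inv_mem hs) _ hq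
  have htop : (P : Subgroup G) ⊔ K = ⊤ := top_le_iff.1
    ((PBasic.sylow_sup_pResidual P).symm.le.trans (sup_le_sup_left hres _))
  refine ⟨K ⊔ Q, ?_, le_antisymm ?_ (le_inf hQ le_sup_right),
    top_le_iff.1 (htop.symm.le.trans (sup_le_sup_left le_sup_left _))⟩
  · have hn : ⊤ ≤ normalizer ((K ⊔ Q : Subgroup G) : Set G) := by
      refine htop.symm.le.trans (sup_le ?_ (le_trans le_sup_left Subgroup.le_normalizer))
      refine le_trans (le_inf ?_ hPQ) (normalizer_inf_normalizer_le_normalizer_sup _ _)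
      rw [normalizer_eq_top]
      exact le_top
    exact normalizer_eq_top_iff.1 (top_le_iff.1 hn)
  · intro m hm
    obtain ⟨hmP, hm2⟩ := mem_inf.1 hm
    rw [← SetLike.mem_coe, Subgroup.normal_mul] at hm2
    obtain ⟨k, hk, q, hq, rfl⟩ := hm2
    refine mul_mem (hKP (mem_inf.2 ⟨hk, ?_⟩)) hq
    simpa using mul_mem hmP (inv_mem (hQ hq))

/-- Abelian 2-subgroup of odd index in `Y` centralised by the odd elements normalising it. -/
theorem le_core_sup_abelian {Y T : Subgroup G} (hT2 : IsPGroup 2 ↥T) (hTY : T ≤ Y)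
    (hmax : ¬ 2 ∣ T.relIndex Y) (hab : IsMulCommutative ↥T)
    (hfix : ∀ g ∈ Y, g ∈ normalizer (T : Set G) → Odd (orderOf g) → g ∈ centralizer (T : Set G)) :
    (∀ g ∈ Y, Odd (orderOf g) → g ∈ core Y) ∧ Y ≤ core Y ⊔ T := by
  let P : Sylow 2 ↥Y := ((hT2.comap_subtype (K := Y))).toSylow (by
    rwa [Subgroup.relIndex] at hmax)
  have hPT : (P : Subgroup ↥Y) = T.subgroupOf Y := rfl
  have hP : IsMulCommutative ↥(P : Subgroup ↥Y) := ⟨⟨fun a b => by
    haveI := hab
    apply Subtype.ext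
    apply Subtype.ext
    exact (congrArg Subtype.val (mul_comm' (⟨((a : ↥Y) : G), a.2⟩ : ↥T) ⟨((b : ↥Y) : G), b.2⟩) :)⟩⟩
  have hnpc : Cfsg.HasNormalPComplement 2 ↥Y :=
    AbelianSylow.hasNormalPComplement_of_abelian P hP fun g hg hco => by
      have hgT : (g : G) ∈ normalizer (T : Set G) := by
        refine mem_normalizer_iff.2 fun x => ?_
        constructor
        · intro hx
          exact (mem_normalizer_iff.1 hg ⟨x, hTY hx⟩).1 hx
        · intro hx
          have hxY : x ∈ Y := by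
            simpa [mul_assoc] using mul_mem (mul_mem (inv_mem g.2) (hTY hx)) g.2
          exact (mem_normalizer_iff.1 hg ⟨x, hxY⟩).2 hx
      have h1 := hfix g g.2 hgT (by rw [orderOf_coe]; exact Nat.coprime_two_right.1 hco)
      exact mem_centralizer_iff.2 fun x hx =>
        Subtype.ext (mem_centralizer_iff.1 h1 (x : G) hx)
  have hres : Cfsg.pResidual 2 ↥Y ≤ Cfsg.oddCore ↥Y :=
    PBasic.le_pPrimeCore (PBasic.pResidual_normal_inst 2 _)
      ((PBasic.coprime_card_iff _).2 fun x hx => (PBasic.mem_pResidual_iff hnpc).1 hx)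
  refine ⟨fun g hg ho => ⟨⟨g, hg⟩, hres (PBasic.mem_pResidual ?_), rfl⟩, fun y hy => ?_⟩
  · rw [orderOf_mk]
    exact Nat.coprime_two_right.2 ho
  have h : (⟨y, hy⟩ : ↥Y) ∈ Cfsg.oddCore ↥Y ⊔ (P : Subgroup ↥Y) := by
    refine sup_le_sup_right hres _ ?_
    rw [sup_comm, PBasic.sylow_sup_pResidual P]
    exact mem_top _
  have := mem_map_of_mem Y.subtype h
  rwa [Subgroup.map_sup, hPT, Subgroup.subgroupOf_map_subtype, inf_eq_left.2 hTY] at this

theorem map_centralizer_singleton (g x : G) :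
    (centralizer ({x} : Set G)).map (MulAut.conj g).toMonoidHom =
      centralizer ({g * x * g⁻¹} : Set G) := by
  ext y
  rw [LEBasic.mem_map_conj, mem_centralizer_singleton_iff, mem_centralizer_singleton_iff]
  constructor
  · intro h
    calc y * (g * x * g⁻¹) = g * (g⁻¹ * y * g * x) * g⁻¹ := by group
      _ = g * (x * (g⁻¹ * y * g)) * g⁻¹ := by rw [h]
      _ = _ := by group
  · intro h
    calc g⁻¹ * y * g * x = g⁻¹ * (y * (g * x * g⁻¹)) * g := by group
      _ = g⁻¹ * (g * x * g⁻¹ * y) * g := by rw [h]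
      _ = _ := by group

/-- The closure of the odd cores of the centralizers, when these are balanced. -/
theorem exists_closure {T : Subgroup G} (hT : Cfsg.IsElementaryAbelian 2 T) (h8 : 8 ≤ Nat.card T)
    (hbal : ∀ a ∈ T, a ≠ 1 → ∀ b ∈ T, b ≠ 1 →
      core (centralizer ({a} : Set G)) ⊓ centralizer ({b} : Set G) ≤ core (centralizer ({b} : Set G))) :
    ∃ W : Subgroup G, ¬ 2 ∣ Nat.card W ∧ normalizer (T : Set G) ≤ normalizer (W : Set G) ∧
      ∀ a ∈ T, a ≠ 1 → core (centralizer ({a} : Set G)) ≤ W := by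
  set θ : G → Subgroup G := fun a => core (centralizer ({a} : Set G)) with hθdef
  have hTc : ∀ a ∈ T, T ≤ centralizer ({a} : Set G) := fun a ha b hb => by
    haveI := hT.1
    exact mem_centralizer_singleton_iff.2 (congrArg Subtype.val (mul_comm' (⟨b, hb⟩ : ↥T) ⟨a, ha⟩))
  have hθ : Cfsg.IsSolvableSignalizerFunctor 2 T θ := by
    refine ⟨⟨fun a _ _ => core_le _, fun a _ _ => core_odd _,
      fun a ha _ b hb x hx => conj_mem_core (hTc a ha hb) hx, hbal⟩, fun a _ _ => ?_⟩
    refine OddChar.oddSolvable _ ?_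
    rw [← Nat.not_even_iff_odd, even_iff_two_dvd]
    exact core_odd _
  obtain ⟨hfam, -⟩ := Signalizer.SFT.iSup_props hT (by norm_num; exact h8) hθ
  have hle : ∀ a ∈ T, a ≠ 1 → θ a ≤ ⨆ b : {b : G // b ∈ T ∧ b ≠ 1}, θ b.1 := fun a ha ha1 =>
    le_iSup (fun b : {b : G // b ∈ T ∧ b ≠ 1} => θ b.1) ⟨a, ha, ha1⟩
  refine ⟨_, hfam.2.1, fun n hn => ?_, hle⟩
  rw [← LEBasic.map_conj_eq_iff_mem_normalizer]
  refine eq_of_le_of_card_ge ?_ (LEBasic.card_map_conj _ n).ge
  rw [map_le_iff_le_comap]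
  refine iSup_le fun b => map_le_iff_le_comap.1 (le_trans (conj_core_le _ _) ?_)
  rw [map_centralizer_singleton]
  refine hle _ ((mem_normalizer_iff.1 hn _).1 b.2.1) fun h => b.2.2 ?_
  simpa using h

/-- A subgroup containing the centralizers of its involutions and the elements conjugating an
involution into it is the whole group, if it contains two non-conjugate involutions. -/
theorem eq_top_of_centralizers {M : Subgroup G} {a d : G} (ha : a * a = 1) (ha1 : a ≠ 1)
    (haM : a ∈ M) (hd : d * d = 1) (hne : ∀ g : G, g * d * g⁻¹ ≠ a)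
    (hcen : ∀ z ∈ M, z * z = 1 → z ≠ 1 → centralizer ({z} : Set G) ≤ M)
    (hconj : ∀ g : G, g * d * g⁻¹ ∈ M → g ∈ M) : M = ⊤ := by
  refine top_le_iff.1 fun g _ => hconj g ?_
  set d' := g * d * g⁻¹ with hd'
  have hd'2 : d' * d' = 1 := by
    rw [hd', show g * d * g⁻¹ * (g * d * g⁻¹) = g * (d * d) * g⁻¹ by group, hd, mul_one,
      mul_inv_cancel]
  rcases FormWreath.conj_or_central (H := (⊤ : Subgroup G)) hd'2 ha (mem_top _) (mem_top _) with
    ⟨x, -, hx⟩ | ⟨z, -, hz1, hz, hdz, haz⟩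
  · exact absurd (by rw [← hx, hd']; group) (hne (x * g))
  · have hzM : z ∈ M := hcen a haM ha ha1 (mem_centralizer_singleton_iff.2 haz.symm)
    exact hcen z hzM hz hz1 (mem_centralizer_singleton_iff.2 hdz)

/-- An elementary abelian Sylow 2-subgroup with fixed-point-free automiser and two classes of
involutions is normal modulo the odd core. -/
theorem oddCore_sup_normalizer {H : Type u} [Group H] [Finite H] (T : Sylow 2 H)
    (hT : Cfsg.IsElementaryAbelian 2 (T : Subgroup H)) (h8 : 8 ≤ Nat.card (T : Subgroup H))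
    (hfpf : ∀ n ∈ normalizer ((T : Subgroup H) : Set H), Odd (orderOf n) →
      ∀ x ∈ (T : Subgroup H), x ≠ 1 → n * x = x * n → n ∈ centralizer ((T : Subgroup H) : Set H))
    {a d : H} (ha : a ∈ (T : Subgroup H)) (ha1 : a ≠ 1) (hd : d ∈ (T : Subgroup H)) (hd1 : d ≠ 1)
    (hne : ∀ g : H, g * d * g⁻¹ ≠ a) :
    ⊤ ≤ Cfsg.oddCore H ⊔ normalizer ((T : Subgroup H) : Set H) := by
  haveI : Fact (Nat.Prime 2) := ⟨Nat.prime_two⟩
  have hsq : ∀ x ∈ (T : Subgroup H), x * x = 1 := fun x hx => by rw [← pow_two]; exact hT.2 x hx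
  have hTc : ∀ x ∈ (T : Subgroup H), (T : Subgroup H) ≤ centralizer ({x} : Set H) := fun x hx b hb => by
    haveI := hT.1
    exact mem_centralizer_singleton_iff.2
      (congrArg Subtype.val (mul_comm' (⟨b, hb⟩ : ↥(T : Subgroup H)) ⟨x, hx⟩))
  have hY : ∀ x ∈ (T : Subgroup H), x ≠ 1 →
      (∀ g ∈ centralizer ({x} : Set H), Odd (orderOf g) → g ∈ core (centralizer ({x} : Set H))) ∧
      centralizer ({x} : Set H) ≤ core (centralizer ({x} : Set H)) ⊔ (T : Subgroup H) := by
    intro x hx hx1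
    refine le_core_sup_abelian T.2 (hTc x hx) ?_ hT.1 fun g hg hgn ho =>
      hfpf g hgn ho x hx hx1 (mem_centralizer_singleton_iff.1 hg)
    exact fun h => T.not_dvd_index (h.trans (relIndex_dvd_index_of_le (hTc x hx)))
  obtain ⟨W, hW, hWn, hθW⟩ := exists_closure hT h8 fun a ha ha1 b hb hb1 g hg =>
    (hY b hb hb1).1 g (mem_inf.1 hg).2 (odd_orderOf_of_mem (core_odd _) (mem_inf.1 hg).1)
  set M := W ⊔ normalizer ((T : Subgroup H) : Set H) with hM
  have hTM : (T : Subgroup H) ≤ M := Subgroup.le_normalizer.trans le_sup_right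
  have hcenT : ∀ x ∈ (T : Subgroup H), x ≠ 1 → centralizer ({x} : Set H) ≤ M := fun x hx hx1 =>
    (hY x hx hx1).2.trans (sup_le ((hθW x hx hx1).trans le_sup_left) hTM)
  have hinT : ∀ z ∈ M, TwoEl z → ∃ c ∈ M, c * z * c⁻¹ ∈ (T : Subgroup H) := by
    intro z hz h2
    obtain ⟨c, hc, hle⟩ := LESylow.exists_conj_le_of_le (zpowers_le.2 hz) h2.isPGroup
      (T.subtype hTM)
    obtain ⟨w, hw, hwe⟩ := hle ⟨z, mem_zpowers z, rfl⟩
    exact ⟨c, hc, by
      have : c * z * c⁻¹ = (w : H) := hwe.symm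
      rw [this]; exact hw⟩
  have htop : M = ⊤ := by
    refine eq_top_of_centralizers (hsq a ha) ha1 (hTM ha) (hsq d hd) hne (fun z hz hz2 hz1 => ?_)
      (fun g hg => ?_)
    · obtain ⟨c, hc, hcz⟩ := hinT z hz (twoEl_of_sq hz2)
      intro w hw
      have h1 : c * w * c⁻¹ ∈ M := hcenT _ hcz (fun h => hz1 (by simpa using h))
        (map_centralizer_singleton c z ▸ ⟨w, hw, rfl⟩)
      simpa [mul_assoc] using mul_mem (mul_mem (inv_mem hc) h1) hc
    · obtain ⟨c, hc, hcd⟩ := hinT _ hg ((twoEl_of_sq (hsq d hd)).conj g)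
      have h1 : c * g * d * (c * g)⁻¹ ∈ (T : Subgroup H) := by simpa [mul_assoc] using hcd
      obtain ⟨v, hv, hve⟩ := AbelianSylow.fusion_normalizer T hT.1 d hd (c * g) h1
      have h2 : v⁻¹ * (c * g) ∈ M := hcenT d hd hd1 (mem_centralizer_singleton_iff.2 (by
        calc v⁻¹ * (c * g) * d = v⁻¹ * (c * g * d * (c * g)⁻¹) * (c * g) := by group
          _ = v⁻¹ * (v * d * v⁻¹) * (c * g) := by rw [hve]
          _ = _ := by group))
      have h3 := mul_mem (inv_mem hc) (mul_mem ((le_sup_right : _ ≤ M) hv) h2)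
      simpa [mul_assoc] using h3
  have hWN : W.Normal := normalizer_eq_top_iff.1 (top_le_iff.1
    (htop.symm.le.trans (sup_le Subgroup.le_normalizer hWn)))
  refine htop.symm.le.trans (sup_le_sup_right (PBasic.le_pPrimeCore hWN ?_) _)
  rw [Nat.coprime_comm, Nat.prime_two.coprime_iff_not_dvd]
  exact hW

/-- An element whose `p`-th power fixes a finite invariant set pointwise. -/
theorem fixed_modEq {p : ℕ} [Fact p.Prime] (r : G) (s : Set G)
    (hmaps : ∀ x ∈ s, r * x * r⁻¹ ∈ s) (hfix : ∀ x ∈ s, r ^ p * x = x * r ^ p) :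
    Nat.card {x : G // x ∈ s ∧ r * x = x * r} ≡ Nat.card ↥s [MOD p] := by
  classical
  haveI := Fintype.ofFinite ↥s
  let σ₀ : ↥s → ↥s := fun x => ⟨r * x * r⁻¹, hmaps x x.2⟩
  have hinj : Function.Injective σ₀ := fun x y h => Subtype.ext (by
    have := congrArg Subtype.val h
    simpa [σ₀] using this)
  let σ : Equiv.Perm ↥s := Equiv.ofBijective σ₀ (Finite.injective_iff_bijective.1 hinj)
  have hpow : ∀ (j : ℕ) (x : ↥s), ((σ ^ j) x : G) = r ^ j * x * (r ^ j)⁻¹ := by
    intro j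
    induction j with
    | zero => intro x; simp
    | succ j ih =>
      intro x
      rw [pow_succ, Equiv.Perm.mul_apply, ih]
      show r ^ j * (r * x * r⁻¹) * (r ^ j)⁻¹ = _
      group
  have hσ : σ ^ p ^ 1 = 1 := by
    rw [pow_one]
    refine Equiv.ext fun x => Subtype.ext ?_
    rw [hpow, hfix x x.2, mul_inv_cancel_right]
    rfl
  have h := Equiv.Perm.card_compl_support_modEq hσ
  rw [← Nat.card_eq_fintype_card, ← Fintype.card_coe, ← Nat.card_eq_fintype_card] at h
  have he : ∀ x : ↥s, x ∈ σ.supportᶜ ↔ r * (x : G) = x * r := fun x => by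
    rw [Finset.mem_compl, Equiv.Perm.notMem_support, Subtype.ext_iff]
    exact mul_inv_eq_iff_eq_mul
  let e : ↥(σ.supportᶜ) ≃ {x : G // x ∈ s ∧ r * x = x * r} :=
    { toFun := fun x => ⟨x.1.1, x.1.2, (he x.1).1 x.2⟩
      invFun := fun x => ⟨⟨x.1, x.2.1⟩, (he ⟨x.1, x.2.1⟩).2 x.2.2⟩
      left_inv := fun x => rfl
      right_inv := fun x => rfl }
  rwa [Nat.card_congr e] at h

end Cfsg.Agent.A8Type
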