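import Cfsg.Agent.Lib.A8Type.AFive
import Cfsg.Agent.Lib.A8Type.General
import Mathlib.GroupTheory.SpecificGroups.Alternating.Simple

/-!
The setting: an elementary abelian subgroup of order sixteen whose normalizer induces the alternating
group of degree five, in a group with three classes of involutions whose Sylow 2-subgroups have centre
of order two.
-/

set_option autoImplicit false
set_option linter.style.haveILetI false
set_option linter.unusedSectionVars false

namespace Cfsg.Agent.A8Type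

open Subgroup ClosedAbelian

universe u

variable {G : Type u} [Group G]

/-- The image in the automiser of an element of the normalizer. -/
noncomputable def img {A : Subgroup G} (φ : ↥(normalizer (A : Set G)) →* A5) (g : G) : A5 :=
  open Classical in if h : g ∈ normalizer (A : Set G) then φ ⟨g, h⟩ else 1

/-- The fixed points in `A`. -/
def cA (A : Subgroup G) (x : G) : Subgroup G := A ⊓ centralizer ({x} : Set G)

/-- The orbit under the normalizer of `A`. -/
def orb (A : Subgroup G) (x : G) : Set G := {z | ∃ n ∈ normalizer (A : Set G), n * x * n⁻¹ = z}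

theorem mem_cA {A : Subgroup G} {x b : G} : b ∈ cA A x ↔ b ∈ A ∧ b * x = x * b := by
  rw [cA, mem_inf, mem_centralizer_singleton_iff]

theorem orb_self (A : Subgroup G) (x : G) : x ∈ orb A x := ⟨1, one_mem _, by group⟩

theorem orb_eq {A : Subgroup G} {x z : G} (h : z ∈ orb A x) : orb A z = orb A x := by
  obtain ⟨n, hn, rfl⟩ := h
  ext w
  constructor
  · rintro ⟨m, hm, rfl⟩
    exact ⟨m * n, mul_mem hm hn, by group⟩
  · rintro ⟨m, hm, rfl⟩
    exact ⟨m * n⁻¹, mul_mem hm (inv_mem hn), by group⟩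

/-- The hypotheses. -/
structure Data (A : Subgroup G) (S : Sylow 2 G) (φ : ↥(normalizer (A : Set G)) →* A5) : Prop where
  ea : Cfsg.IsElementaryAbelian 2 A
  card : Nat.card A = 16
  le : A ≤ (S : Subgroup G)
  leN : (S : Subgroup G) ≤ normalizer (A : Set G)
  center : ∀ x ∈ (S : Subgroup G), ∀ z ∈ (S : Subgroup G),
    (∀ s ∈ (S : Subgroup G), x * s = s * x) → (∀ s ∈ (S : Subgroup G), z * s = s * z) →
    x = 1 ∨ z = 1 ∨ x = z
  surj : Function.Surjective φ
  ker : φ.ker = A.subgroupOf (normalizer (A : Set G)) ⊔ Cfsg.oddCore ↥(normalizer (A : Set G))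
  three : Nat.card {c : ConjClasses G // ∃ x ∈ c.carrier, orderOf x = 2} = 3

variable [Finite G] {A : Subgroup G} {S : Sylow 2 G} {φ : ↥(normalizer (A : Set G)) →* A5}
  (D : Data A S φ)

theorem card_A5 : Nat.card A5 = 60 := by
  rw [Nat.card_eq_fintype_card]
  decide +kernel

include D

namespace Data

theorem comm {a b : G} (ha : a ∈ A) (hb : b ∈ A) : a * b = b * a :=
  haveI := D.ea.1
  congrArg Subtype.val (mul_comm' (⟨a, ha⟩ : ↥A) ⟨b, hb⟩)

theorem sq {a : G} (ha : a ∈ A) : a * a = 1 := by rw [← pow_two]; exact D.ea.2 a ha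

theorem inv {a : G} (ha : a ∈ A) : a⁻¹ = a := inv_eq_of_mul_eq_one_right (D.sq ha)

theorem isP : IsPGroup 2 ↥A := fun a => ⟨1, Subtype.ext (D.ea.2 a a.2)⟩

theorem memN {a : G} (ha : a ∈ A) : a ∈ normalizer (A : Set G) := Subgroup.le_normalizer ha

theorem le_cent : A ≤ centralizer (A : Set G) := fun _ ha =>
  mem_centralizer_iff.2 fun _ hb => D.comm hb ha

omit D in
theorem img_of_mem {g : G} (hg : g ∈ normalizer (A : Set G)) : img φ g = φ ⟨g, hg⟩ := dif_pos hg

theorem img_mul {g h : G} (hg : g ∈ normalizer (A : Set G)) (hh : h ∈ normalizer (A : Set G)) :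
    img φ (g * h) = img φ g * img φ h := by
  rw [img_of_mem hg, img_of_mem hh, img_of_mem (mul_mem hg hh), ← map_mul]; rfl

theorem img_inv {g : G} (hg : g ∈ normalizer (A : Set G)) : img φ g⁻¹ = (img φ g)⁻¹ := by
  rw [img_of_mem hg, img_of_mem (inv_mem hg), ← map_inv]; rfl

theorem img_pow {g : G} (hg : g ∈ normalizer (A : Set G)) (k : ℕ) :
    img φ (g ^ k) = (img φ g) ^ k := by
  rw [img_of_mem hg, img_of_mem (pow_mem hg k), ← map_pow]; rfl

theorem img_conj {g h : G} (hg : g ∈ normalizer (A : Set G)) (hh : h ∈ normalizer (A : Set G)) :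
    img φ (g * h * g⁻¹) = img φ g * img φ h * (img φ g)⁻¹ := by
  rw [D.img_mul (mul_mem hg hh) (inv_mem hg), D.img_mul hg hh, D.img_inv hg]

theorem exists_img (w : A5) : ∃ n ∈ normalizer (A : Set G), img φ n = w := by
  obtain ⟨n, rfl⟩ := D.surj w
  exact ⟨n, n.2, img_of_mem n.2⟩

theorem ker_le_cent {n : ↥(normalizer (A : Set G))} (h : φ n = 1) :
    (n : G) ∈ centralizer (A : Set G) := by
  suffices hle : φ.ker ≤ (centralizer (A : Set G)).subgroupOf (normalizer (A : Set G)) from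
    mem_subgroupOf.1 (hle h)
  rw [D.ker]
  refine sup_le (fun a ha => mem_subgroupOf.2 (D.le_cent (mem_subgroupOf.1 ha))) ?_
  intro o ho
  refine mem_subgroupOf.2 (mem_centralizer_iff.2 fun b hb => ?_)
  set c : ↥(normalizer (A : Set G)) := o * ⟨b, D.memN hb⟩ * o⁻¹ * ⟨b, D.memN hb⟩⁻¹ with hc
  have h1 : (c : G) ∈ A := mul_mem ((mem_normalizer_iff.1 o.2 b).1 hb) (inv_mem hb)
  have h2 : c ∈ Cfsg.oddCore ↥(normalizer (A : Set G)) := by
    rw [hc, mul_assoc, mul_assoc]
    refine mul_mem ho ?_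
    rw [← mul_assoc]
    exact (Cfsg.pPrimeCore_normal 2 _).conj_mem _ (inv_mem ho) _
  have h3 : Odd (orderOf (c : G)) := by
    rw [orderOf_coe]
    exact Nat.coprime_two_right.1 ((PBasic.coprime_card_iff _).1
      (PBasic.pPrimeCore_coprime 2 _) c h2)
  have h4 : (o : G) * b * (o : G)⁻¹ * b⁻¹ = 1 := (TwoEl.of_group D.isP h1).eq_one_of_odd h3
  rw [mul_inv_eq_one, mul_inv_eq_iff_eq_mul] at h4
  exact h4.symm

theorem img_eq_one_iff {n : G} (hn : n ∈ normalizer (A : Set G)) :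
    img φ n = 1 ↔ n ∈ centralizer (A : Set G) := by
  rw [img_of_mem hn]
  refine ⟨D.ker_le_cent, fun h => ?_⟩
  set C := (centralizer (A : Set G)).subgroupOf (normalizer (A : Set G))
  haveI : C.Normal := normal_subgroupOf_of_le_normalizer
    (LELarge.normalizer_le_normalizer_centralizer A)
  haveI : (C.map φ).Normal := Subgroup.Normal.map inferInstance φ D.surj
  haveI : IsSimpleGroup A5 := alternatingGroup.isSimpleGroup (by simp)
  rcases Subgroup.Normal.eq_bot_or_eq_top (inferInstance : (C.map φ).Normal) with hbot | htop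
  · exact mem_bot.1 (hbot ▸ mem_map_of_mem φ (mem_subgroupOf.2 h))
  · exfalso
    have hall : ∀ s ∈ (S : Subgroup G), ∀ x ∈ A, x * s = s * x := fun s hs x hx => by
      obtain ⟨m, hm, hms⟩ : φ ⟨s, D.leN hs⟩ ∈ C.map φ := by rw [htop]; exact mem_top _
      have h1 : φ (⟨s, D.leN hs⟩ * m⁻¹) = 1 := by rw [map_mul, map_inv, hms, mul_inv_cancel]
      have h2 := mul_mem (D.ker_le_cent h1) (mem_subgroupOf.1 hm)
      simp only [Subgroup.coe_mul, Subgroup.coe_inv, inv_mul_cancel_right] at h2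
      exact mem_centralizer_iff.1 h2 x hx
    obtain ⟨x, hx, hx1⟩ : ∃ x ∈ A, x ≠ 1 := by
      by_contra! hh
      have := Subgroup.card_le_of_le (fun x hx => mem_bot.2 (hh x hx) : A ≤ ⊥)
      rw [D.card, Subgroup.card_bot] at this
      omega
    have hle : A ≤ zpowers x := fun z hz => by
      rcases D.center x (D.le hx) z (D.le hz) (fun s hs => hall s hs x hx)
        (fun s hs => hall s hs z hz) with h | h | h
      · exact absurd h hx1
      · rw [h]; exact one_mem _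
      · rw [← h]; exact mem_zpowers x
    have := Subgroup.card_le_of_le hle
    rw [D.card, Nat.card_zpowers] at this
    have := orderOf_le_of_pow_eq_one two_pos (D.ea.2 x hx)
    omega

theorem img_A {a : G} (ha : a ∈ A) : img φ a = 1 := (D.img_eq_one_iff (D.memN ha)).2 (D.le_cent ha)

theorem mem_A_of_cent {x : G} (hx : x ∈ centralizer (A : Set G)) (h2 : TwoEl x) : x ∈ A := by
  have hxN : x ∈ normalizer (A : Set G) := centralizer_le_normalizer _ hx
  have h1 : (⟨x, hxN⟩ : ↥(normalizer (A : Set G))) ∈ φ.ker := by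
    rw [MonoidHom.mem_ker, ← img_of_mem hxN]; exact (D.img_eq_one_iff hxN).2 hx
  rw [D.ker, ← SetLike.mem_coe, Subgroup.mul_normal] at h1
  obtain ⟨a, ha, o, ho, hao⟩ := h1
  have he : (a : G) * o = x := congrArg Subtype.val hao
  have hoe : (o : G) = (a : G)⁻¹ * x := by rw [← he, inv_mul_cancel_left]
  have hc : Commute (a : G)⁻¹ x := ((Commute.inv_left (mem_centralizer_iff.1 hx _
    (mem_subgroupOf.1 ha))) :)
  obtain ⟨k, hk⟩ := h2
  have hk2 : TwoEl (o : G) := ⟨k + 1, by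
    rw [hoe, hc.mul_pow, pow_succ', pow_mul, pow_mul, pow_two, pow_two, D.inv (mem_subgroupOf.1 ha),
      D.sq (mem_subgroupOf.1 ha), one_pow, one_mul, (Commute.refl x).mul_pow, hk, mul_one]⟩
  have ho1 := hk2.eq_one_of_odd (by
    rw [orderOf_coe]
    exact Nat.coprime_two_right.1 ((PBasic.coprime_card_iff _).1
      (PBasic.pPrimeCore_coprime 2 _) o ho))
  rw [← he, ho1, mul_one]
  exact mem_subgroupOf.1 ha

theorem mem_A_of_img {x : G} (hx : x ∈ normalizer (A : Set G)) (h2 : TwoEl x) (h : img φ x = 1) :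
    x ∈ A := D.mem_A_of_cent ((D.img_eq_one_iff hx).1 h) h2

theorem img_two {x : G} (hx : x ∈ normalizer (A : Set G)) (h2 : TwoEl x) :
    img φ x * img φ x = 1 := by
  obtain ⟨k, hk⟩ := h2
  have h1 : orderOf (img φ x) ∣ 2 ^ k := orderOf_dvd_of_pow_eq_one (by
    rw [← D.img_pow hx, hk]; exact D.img_A (one_mem A))
  obtain ⟨j, -, hj⟩ := (Nat.dvd_prime_pow Nat.prime_two).1 h1
  have h60 : orderOf (img φ x) ∣ 60 := card_A5 ▸ orderOf_dvd_natCard _
  refine pow_four _ (orderOf_dvd_iff_pow_eq_one.1 ?_)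
  rw [hj, show (4 : ℕ) = 2 ^ 2 from rfl]
  refine pow_dvd_pow 2 ?_
  by_contra hlt
  have : 2 ^ 3 ∣ 60 := (pow_dvd_pow 2 (by omega : 3 ≤ j)).trans (hj ▸ h60)
  omega

theorem inv2_img {x : G} (hx : x ∈ normalizer (A : Set G)) (h2 : TwoEl x) (hxA : x ∉ A) :
    Inv2 (img φ x) := ⟨D.img_two hx h2, fun h => hxA (D.mem_A_of_img hx h2 h)⟩

theorem cA_congr {x z : G} (hx : x ∈ normalizer (A : Set G)) (hz : z ∈ normalizer (A : Set G))
    (h : img φ x = img φ z) : cA A x = cA A z := by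
  have key : ∀ x z : G, x ∈ normalizer (A : Set G) → z ∈ normalizer (A : Set G) →
      img φ x = img φ z → cA A x ≤ cA A z := fun x z hx hz h b hb => by
    obtain ⟨hbA, hbx⟩ := mem_cA.1 hb
    have hc : x⁻¹ * z ∈ centralizer (A : Set G) :=
      (D.img_eq_one_iff (mul_mem (inv_mem hx) hz)).1 (by
        rw [D.img_mul (inv_mem hx) hz, D.img_inv hx, h, inv_mul_cancel])
    refine mem_cA.2 ⟨hbA, ?_⟩
    calc b * z = b * x * (x⁻¹ * z) := by group
      _ = x * (b * (x⁻¹ * z)) := by rw [hbx, mul_assoc]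
      _ = x * ((x⁻¹ * z) * b) := by rw [mem_centralizer_iff.1 hc b hbA]
      _ = z * b := by group
  exact le_antisymm (key x z hx hz h) (key z x hz hx h.symm)

theorem mem_cA_conj {n x b : G} (hn : n ∈ normalizer (A : Set G)) :
    n * b * n⁻¹ ∈ cA A (n * x * n⁻¹) ↔ b ∈ cA A x := by
  rw [mem_cA, mem_cA, ← mem_normalizer_iff.1 hn b]
  refine and_congr_right fun _ => ⟨fun h => ?_, fun h => ?_⟩
  · calc b * x = n⁻¹ * (n * b * n⁻¹ * (n * x * n⁻¹)) * n := by group
      _ = n⁻¹ * (n * x * n⁻¹ * (n * b * n⁻¹)) * n := by rw [h]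
      _ = _ := by group
  · calc n * b * n⁻¹ * (n * x * n⁻¹) = n * (b * x) * n⁻¹ := by group
      _ = n * (x * b) * n⁻¹ := by rw [h]
      _ = _ := by group

theorem card_cA_modEq {p : ℕ} [Fact p.Prime] {r : G} (hr : r ∈ normalizer (A : Set G))
    (hp : img φ r ^ p = 1) : Nat.card ↥(cA A r) ≡ 16 [MOD p] := by
  have h := fixed_modEq (p := p) r (A : Set G) (fun x hx => (mem_normalizer_iff.1 hr x).1 hx)
    fun x hx => (mem_centralizer_iff.1 ((D.img_eq_one_iff (pow_mem hr p)).1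
      (by rw [D.img_pow hr, hp])) x hx).symm
  rw [show Nat.card ↥(A : Set G) = 16 from D.card] at h
  have he : Nat.card {x : G // x ∈ (A : Set G) ∧ r * x = x * r} = Nat.card ↥(cA A r) :=
    Nat.card_congr (Equiv.subtypeEquivRight fun x => by rw [mem_cA]; simp [eq_comm])
  rwa [he] at h

/-- No element of order five fixes a non-trivial element of `A`. -/
theorem five {r b : G} (hr : r ∈ normalizer (A : Set G)) (h5 : img φ r ^ 5 = 1)
    (hb : b ∈ cA A r) (hb1 : b ≠ 1) : img φ r = 1 := by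
  haveI : Fact (Nat.Prime 5) := ⟨by norm_num⟩
  have h := D.card_cA_modEq (p := 5) hr h5
  have hd : Nat.card ↥(cA A r) ∣ 2 ^ 4 := by
    rw [show 2 ^ 4 = Nat.card A from D.card.symm]
    exact card_dvd_of_le inf_le_left
  obtain ⟨k, hk, hc⟩ := (Nat.dvd_prime_pow Nat.prime_two).1 hd
  have hne : k ≠ 0 := fun h0 => hb1 (mem_bot.1 ((Subgroup.card_eq_one.1
    (by rw [hc, h0, pow_zero])) ▸ hb))
  rw [hc] at h
  interval_cases k <;> first | exact absurd rfl hne | exact absurd h (by decide) | skip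
  have he : cA A r = A := eq_of_le_of_card_ge inf_le_left (by rw [hc, D.card]; norm_num)
  exact (D.img_eq_one_iff hr).2 (mem_centralizer_iff.2 fun x hx =>
    (mem_cA.1 (he.symm ▸ hx : x ∈ cA A r)).2)

/-- The commutation map onto the fixed points. -/
theorem card_cA {x : G} (hx : x ∈ normalizer (A : Set G)) (hi : Inv2 (img φ x)) :
    Nat.card ↥(cA A x) = 4 ∧ ∀ c ∈ cA A x, ∃ b ∈ A, b * (x * b * x⁻¹) = c := by
  haveI := D.ea.1
  have hc : ∀ b ∈ A, x * b * x⁻¹ ∈ A := fun b hb => (mem_normalizer_iff.1 hx b).1 hb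
  have hsq : ∀ b ∈ A, x * (x * b * x⁻¹) * x⁻¹ = b := fun b hb => by
    have h := (D.img_eq_one_iff (mul_mem hx hx)).1 (by rw [D.img_mul hx hx, hi.1])
    calc x * (x * b * x⁻¹) * x⁻¹ = x * x * b * (x * x)⁻¹ := by group
      _ = b := by rw [← mem_centralizer_iff.1 h b hb, mul_inv_cancel_right]
  let f : ↥A →* ↥A :=
    { toFun := fun b => ⟨b * (x * b * x⁻¹), mul_mem b.2 (hc b b.2)⟩
      map_one' := Subtype.ext (by simp)
      map_mul' := fun b c => Subtype.ext (by
        show (b : G) * c * (x * ((b : G) * c) * x⁻¹) =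
          (b : G) * (x * b * x⁻¹) * ((c : G) * (x * c * x⁻¹))
        calc (b : G) * c * (x * ((b : G) * c) * x⁻¹)
            = (b : G) * (c * (x * b * x⁻¹)) * (x * c * x⁻¹) := by group
          _ = (b : G) * ((x * b * x⁻¹) * c) * (x * c * x⁻¹) := by rw [D.comm c.2 (hc b b.2)]
          _ = _ := by group) }
  have hker : f.ker = (cA A x).subgroupOf A := by
    ext b
    rw [MonoidHom.mem_ker, mem_subgroupOf, mem_cA, Subtype.ext_iff]
    show (b : G) * (x * b * x⁻¹) = 1 ↔ _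
    rw [mul_eq_one_iff_inv_eq, D.inv b.2, eq_mul_inv_iff_mul_eq]
    exact ⟨fun h => ⟨b.2, h⟩, fun h => h.2⟩
  have hran : f.range ≤ (cA A x).subgroupOf A := by
    rintro _ ⟨b, rfl⟩
    refine mem_subgroupOf.2 (mem_cA.2 ⟨(f b).2, ?_⟩)
    show (b : G) * (x * b * x⁻¹) * x = x * ((b : G) * (x * b * x⁻¹))
    calc (b : G) * (x * b * x⁻¹) * x = (x * b * x⁻¹) * b * x := by rw [D.comm b.2 (hc b b.2)]
      _ = (x * b * x⁻¹) * (x * (x * b * x⁻¹) * x⁻¹) * x := by rw [hsq b b.2]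
      _ = _ := by group
  have hcard : Nat.card ((cA A x).subgroupOf A) = Nat.card ↥(cA A x) :=
    Nat.card_congr (subgroupOfEquivOfLe inf_le_left).toEquiv
  have h1 : Nat.card f.range * Nat.card ↥(cA A x) = 16 := by
    rw [← hcard, ← hker, ← Subgroup.index_ker f, Subgroup.index_mul_card, D.card]
  have hr : Nat.card f.range ≤ Nat.card ↥(cA A x) := hcard ▸ Subgroup.card_le_of_le hran
  obtain ⟨k, hk, hk'⟩ := (Nat.dvd_prime_pow Nat.prime_two).1
    (show Nat.card ↥(cA A x) ∣ 2 ^ 4 from ⟨_, by rw [mul_comm]; exact h1.symm⟩)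
  have hge : 2 ≤ k := by
    by_contra hlt
    have h2 : 2 ^ k ≤ 2 ^ 1 := Nat.pow_le_pow_right two_pos (by omega)
    rw [← hk'] at h2
    nlinarith
  have hle : k ≤ 2 := by
    by_contra hlt
    obtain ⟨w, hw5, hw1⟩ := inv2_conj_five _ hi
    obtain ⟨n, hn, rfl⟩ := D.exists_img w
    have hy : n * x * n⁻¹ ∈ normalizer (A : Set G) := mul_mem (mul_mem hn hx) (inv_mem hn)
    have hbig : 8 ≤ Nat.card ↥(cA A x) := hk' ▸ (Nat.pow_le_pow_right two_pos (by omega : 3 ≤ k))
    have hbig' : 8 ≤ Nat.card ↥(cA A (n * x * n⁻¹)) := by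
      refine hbig.trans (Nat.card_le_card_of_injective
        (fun b : ↥(cA A x) => (⟨n * b * n⁻¹, (D.mem_cA_conj hn).2 b.2⟩ : ↥(cA A (n * x * n⁻¹))))
        fun b c h => Subtype.ext (by simpa using congrArg Subtype.val h))
    obtain ⟨b, hb, hb', hb1⟩ : ∃ b, b ∈ cA A x ∧ b ∈ cA A (n * x * n⁻¹) ∧ b ≠ 1 := by
      by_contra! hh
      have hinj : Function.Injective (fun z : ↥(cA A x) × ↥(cA A (n * x * n⁻¹)) =>
          (⟨z.1 * z.2, mul_mem (mem_cA.1 z.1.2).1 (mem_cA.1 z.2.2).1⟩ : ↥A)) := by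
        intro a b hab
        refine Subgroup.mul_injective_of_disjoint (H₁ := cA A x) (H₂ := cA A (n * x * n⁻¹)) ?_
          (congrArg Subtype.val hab)
        rw [Subgroup.disjoint_def]
        exact fun {z} hz hz' => hh z hz hz'
      have := Nat.card_le_card_of_injective _ hinj
      rw [Nat.card_prod, D.card] at this
      nlinarith
    refine hw1 ?_
    have him : img φ (x * (n * x * n⁻¹)) = img φ x * (img φ n * img φ x * (img φ n)⁻¹) := by
      rw [D.img_mul hx hy, D.img_conj hn hx]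
    rw [← him]
    refine D.five (mul_mem hx hy) (by rw [him, hw5]) (mem_cA.2 ⟨(mem_cA.1 hb).1, ?_⟩) hb1
    rw [← mul_assoc, (mem_cA.1 hb).2, mul_assoc, (mem_cA.1 hb').2, ← mul_assoc]
  have hk2 : k = 2 := le_antisymm hle hge
  rw [hk2] at hk'
  refine ⟨hk', fun c hc' => ?_⟩
  have heq : f.range = (cA A x).subgroupOf A := eq_of_le_of_card_ge hran (by
    rw [hcard]
    nlinarith)
  obtain ⟨b, hb⟩ : (⟨c, (mem_cA.1 hc').1⟩ : ↥A) ∈ f.range := heq.symm ▸ mem_subgroupOf.2 hc'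
  exact ⟨b, b.2, congrArg Subtype.val hb⟩

/-- All involutions outside `A` are conjugate in the normalizer. -/
theorem outside_conj {x z : G} (hx : x ∈ normalizer (A : Set G)) (hz : z ∈ normalizer (A : Set G))
    (hx2 : x * x = 1) (hz2 : z * z = 1) (hxA : x ∉ A) (hzA : z ∉ A) :
    ∃ n ∈ normalizer (A : Set G), n * z * n⁻¹ = x := by
  have hix := D.inv2_img hx (twoEl_of_sq hx2) hxA
  have hiz := D.inv2_img hz (twoEl_of_sq hz2) hzA
  obtain ⟨w, hw⟩ := inv2_conj _ hiz _ hix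
  obtain ⟨m, hm, rfl⟩ := D.exists_img w
  obtain ⟨y, hy⟩ : ∃ y, y = m * z * m⁻¹ := ⟨_, rfl⟩
  have hyN : y ∈ normalizer (A : Set G) := hy ▸ mul_mem (mul_mem hm hz) (inv_mem hm)
  have hy2 : y * y = 1 := by
    rw [hy, show m * z * m⁻¹ * (m * z * m⁻¹) = m * (z * z) * m⁻¹ by group, hz2, mul_one,
      mul_inv_cancel]
  have hyi : img φ y = img φ x := by rw [hy, D.img_conj hm hz, hw]
  have hk : (⟨x * y, mul_mem hx hyN⟩ : ↥(normalizer (A : Set G))) ∈ φ.ker := by
    rw [MonoidHom.mem_ker, ← img_of_mem (mul_mem hx hyN), D.img_mul hx hyN, hyi, hix.1]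
  rw [D.ker, ← SetLike.mem_coe, Subgroup.mul_normal] at hk
  obtain ⟨a, ha, o, ho, hao⟩ := hk
  rw [SetLike.mem_coe, mem_subgroupOf] at ha
  have he : (a : G) * o = x * y := congrArg Subtype.val hao
  have hoC : (o : G) ∈ centralizer (A : Set G) :=
    D.ker_le_cent (MonoidHom.mem_ker.1 (D.ker.symm ▸ mem_sup_right ho))
  have hoo : Odd (orderOf (o : G)) := by
    rw [orderOf_coe]
    exact Nat.coprime_two_right.1 ((PBasic.coprime_card_iff _).1
      (PBasic.pPrimeCore_coprime 2 _) o ho)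
  have hyinv : y⁻¹ = y := inv_eq_of_mul_eq_one_right hy2
  have hya : y * (a : G) * y⁻¹ ∈ A := (mem_normalizer_iff.1 hyN _).1 ha
  have hyo : (⟨y, hyN⟩ : ↥(normalizer (A : Set G))) * o * (⟨y, hyN⟩ : ↥(normalizer (A : Set G)))⁻¹ ∈ Cfsg.oddCore ↥(normalizer (A : Set G)) :=
    (Cfsg.pPrimeCore_normal 2 _).conj_mem _ ho _
  -- `y` inverts the product
  have hinv : y * (x * y) * y⁻¹ = (x * y)⁻¹ := by
    rw [mul_inv_rev, inv_eq_of_mul_eq_one_right hx2, hyinv]
    calc y * (x * y) * y = y * x * (y * y) := by group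
      _ = y * x := by rw [hy2, mul_one]
  have h1 : (y * (a : G) * y⁻¹) * (y * o * y⁻¹) = (a : G) * (o : G)⁻¹ := by
    calc (y * (a : G) * y⁻¹) * (y * o * y⁻¹) = y * ((a : G) * o) * y⁻¹ := by group
      _ = (o : G)⁻¹ * (a : G)⁻¹ := by rw [he, hinv, ← he, mul_inv_rev]
      _ = (o : G)⁻¹ * a := by rw [D.inv ha]
      _ = _ := by rw [mem_centralizer_iff.1 (inv_mem hoC) a ha]
  have h2 : y * o * y⁻¹ = (o : G)⁻¹ ∧ y * (a : G) * y⁻¹ = a := by
    set c := (a : G)⁻¹ * (y * (a : G) * y⁻¹) with hc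
    have hcA : c ∈ A := mul_mem (inv_mem ha) hya
    have hce : c = (o : G)⁻¹ * (y * o * y⁻¹)⁻¹ := by
      rw [hc, eq_mul_inv_iff_mul_eq, mul_assoc, h1]; group
    have hco : (⟨c, D.memN hcA⟩ : ↥(normalizer (A : Set G))) ∈ Cfsg.oddCore ↥(normalizer (A : Set G)) := by
      have : (⟨c, D.memN hcA⟩ : ↥(normalizer (A : Set G))) = o⁻¹ * ((⟨y, hyN⟩ : ↥(normalizer (A : Set G))) * o * (⟨y, hyN⟩ : ↥(normalizer (A : Set G)))⁻¹)⁻¹ :=
        Subtype.ext hce
      rw [this]
      exact mul_mem (inv_mem ho) (inv_mem hyo)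
    have hc1 : c = 1 := (TwoEl.of_group D.isP hcA).eq_one_of_odd (by
      rw [← orderOf_mk c (D.memN hcA)]
      exact Nat.coprime_two_right.1 ((PBasic.coprime_card_iff _).1
        (PBasic.pPrimeCore_coprime 2 _) _ hco))
    refine ⟨?_, (inv_mul_eq_one.1 hc1).symm⟩
    rw [hc1] at hce
    calc y * o * y⁻¹ = 1 * (y * o * y⁻¹) := by rw [one_mul]
      _ = (o : G)⁻¹ * (y * o * y⁻¹)⁻¹ * (y * o * y⁻¹) := by rw [← hce]
      _ = _ := by group
  obtain ⟨j, hj⟩ := hoo
  set v := (o : G) ^ (j + 1) with hv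
  have hvv : v * v = o := by
    rw [hv, ← pow_add, show j + 1 + (j + 1) = (2 * j + 1) + 1 by ring, pow_succ, ← hj,
      pow_orderOf_eq_one, one_mul]
  have hvN : v ∈ normalizer (A : Set G) := pow_mem o.2 _
  have hvC : v ∈ centralizer (A : Set G) := pow_mem hoC _
  have hyv : y * v⁻¹ = v * y := by
    have : y * v * y⁻¹ = v⁻¹ := by rw [hv, ← conj_pow, h2.1, inv_pow]
    calc y * v⁻¹ = y * (y * v * y⁻¹) := by rw [this]
      _ = y * y * v * y⁻¹ := by group
      _ = v * y := by rw [hy2, one_mul, hyinv]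
  -- `x` is a conjugate of `a y`
  have hxy : x = (a : G) * o * y := by rw [he, mul_assoc, hy2, mul_one]
  have hay : v * ((a : G) * y) * v⁻¹ = x := by
    calc v * ((a : G) * y) * v⁻¹ = v * (a : G) * (y * v⁻¹) := by group
      _ = (a : G) * v * (v * y) := by rw [hyv, ← mem_centralizer_iff.1 hvC a ha]
      _ = (a : G) * (v * v) * y := by group
      _ = x := by rw [hvv, hxy]
  have hac : (a : G) ∈ cA A y := mem_cA.2 ⟨ha, by
    conv_lhs => rw [← h2.2]
    group⟩
  obtain ⟨b, hb, hbe⟩ := (D.card_cA hyN (D.inv2_img hyN (twoEl_of_sq hy2) fun h => hix.2 (by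
    rw [← hyi]; exact D.img_A h))).2 _ hac
  refine ⟨v * b * m, mul_mem (mul_mem hvN (D.memN hb)) hm, ?_⟩
  rw [← hay, ← hbe]
  calc v * b * m * z * (v * b * m)⁻¹ = v * (b * y * b⁻¹) * v⁻¹ := by rw [hy]; group
    _ = v * (b * y * b) * v⁻¹ := by rw [D.inv hb]
    _ = v * (b * (y * b * y⁻¹) * y) * v⁻¹ := by group

/-- Two elements of the Sylow subgroup with distinct involutions as images. -/
theorem exists_two_images : ∃ u ∈ (S : Subgroup G), ∃ v ∈ (S : Subgroup G), Inv2 (img φ u) ∧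
    Inv2 (img φ v) ∧ img φ u ≠ img φ v := by
  haveI : Fact (Nat.Prime 2) := ⟨Nat.prime_two⟩
  set P := ((S : Subgroup G).subgroupOf (normalizer (A : Set G))).map φ with hP
  have hodd : ¬ 2 ∣ P.index := fun h => S.not_dvd_index ((h.trans
    (index_map_dvd _ D.surj)).trans (relIndex_dvd_index_of_le D.leN))
  have h60 := P.card_mul_index
  rw [card_A5] at h60
  have hc4 : 4 ∣ Nat.card P := by
    have hcop : Nat.Coprime 4 P.index :=
      (Nat.Coprime.pow_left 2 (Nat.prime_two.coprime_iff_not_dvd.2 hodd))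
    exact hcop.dvd_of_dvd_mul_right (by rw [h60]; norm_num)
  have h4 : 4 ≤ Nat.card P := Nat.le_of_dvd Nat.card_pos hc4
  have hel : ∀ w ∈ P, w ≠ 1 → ∃ s ∈ (S : Subgroup G), img φ s = w ∧ Inv2 w := by
    rintro _ ⟨s, hs, rfl⟩ hw
    refine ⟨s, hs, img_of_mem s.2, ?_, hw⟩
    rw [← img_of_mem s.2]
    exact D.img_two s.2 (TwoEl.of_group S.2 (mem_subgroupOf.1 hs))
  haveI : Nontrivial ↥P := Finite.one_lt_card_iff_nontrivial.1 (by omega)
  obtain ⟨⟨w1, hw1⟩, hne1⟩ := exists_ne (1 : ↥P)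
  obtain ⟨w2, hw2, hne2, hne⟩ : ∃ w ∈ P, w ≠ 1 ∧ w ≠ w1 := by
    by_contra! hh
    have hle : P ≤ zpowers w1 := fun w hw => by
      by_cases h : w = 1
      · rw [h]; exact one_mem _
      · rw [hh w hw h]; exact mem_zpowers _
    have h1 := Subgroup.card_le_of_le hle
    obtain ⟨-, -, -, hi⟩ := hel w1 hw1 (fun h => hne1 (Subtype.ext h))
    rw [Nat.card_zpowers] at h1
    have := orderOf_le_of_pow_eq_one two_pos (show w1 ^ 2 = 1 by rw [pow_two]; exact hi.1)
    omega
  obtain ⟨u, hu, rfl, hiu⟩ := hel w1 hw1 (fun h => hne1 (Subtype.ext h))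
  obtain ⟨v, hv, rfl, hiv⟩ := hel w2 hw2 hne2
  exact ⟨u, hu, v, hv, hiu, hiv, hne.symm⟩

/-- The images of the elements of the Sylow subgroup. -/
theorem img_S {u v s : G} (hu : u ∈ (S : Subgroup G)) (hv : v ∈ (S : Subgroup G))
    (hs : s ∈ (S : Subgroup G)) (hiu : Inv2 (img φ u)) (hiv : Inv2 (img φ v))
    (hne : img φ u ≠ img φ v) :
    img φ u * img φ v = img φ v * img φ u ∧
      (img φ s = 1 ∨ img φ s = img φ u ∨ img φ s = img φ v ∨ img φ s = img φ (u * v)) := by
  have key : ∀ p q : G, p ∈ (S : Subgroup G) → q ∈ (S : Subgroup G) →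
      img φ p * img φ q = img φ q * img φ p := fun p q hp hq => by
    have h := D.img_two (D.leN (mul_mem hp hq)) (TwoEl.of_group S.2 (mul_mem hp hq))
    rw [D.img_mul (D.leN hp) (D.leN hq)] at h
    calc img φ p * img φ q = (img φ p * img φ q)⁻¹ := (inv_eq_of_mul_eq_one_right h).symm
      _ = _ := by
        rw [mul_inv_rev, inv_eq_of_mul_eq_one_right (D.img_two (D.leN hp) (TwoEl.of_group S.2 hp)),
          inv_eq_of_mul_eq_one_right (D.img_two (D.leN hq) (TwoEl.of_group S.2 hq))]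
  refine ⟨key u v hu hv, ?_⟩
  rw [D.img_mul (D.leN hu) (D.leN hv)]
  exact inv2_four _ hiu _ hiv (key u v hu hv) hne _ (key s u hs hu)

end Data

end Cfsg.Agent.A8Type
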